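import Cfsg.Agent.Involutions.BaerSuzuki
import Cfsg.Agent.Omega.FOne.TvwBasic
import Mathlib.LinearAlgebra.Dual.Lemmas
import Mathlib.LinearAlgebra.FreeModule.Finite.Basic
import Cfsg.Agent.Omega.NO1.Comp.Field
import Cfsg.Agent.Omega.NatPair.Semi

section


/-!
# THEOREM TR (helper809 #19638, referee helper481 #20070): the abstract form

`ρ : Γ → End(M)` faithful, `M` a finite `𝔽₂`-space, `O₂(Γ) = 1`.

* `Is ρ g w f` : `g` acts as the transvection `v ↦ v + f(v) w`;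
* `Dt.nb` : every transvection has a neighbour (`f(w') = 1 = f'(w)`) (Baer–Suzuki);
* `Dt.comp` : transvections in different components commute;
* `Dt.main` : `b = 1 + f.w` in a normal 2-subgroup of `C(λ)` ⟹ there is a functional `f'` with `f'(w) = 1` and
  `f'(t w) = 0` for all `t ∈ C(λ)` with `t w ≠ w`.
-/

set_option autoImplicit false
set_option linter.unusedSectionVars false

namespace Cfsg.Agent.Omega.FOne.NOv.TrA

open Subgroup
open Cfsg.Agent.Omega.FOne.Tvw (z2 addself z2add)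

variable {Γ M : Type*} [Group Γ] [AddCommGroup M] [Module (ZMod 2) M]

structure Dt (ρ : Γ →* Module.End (ZMod 2) M) : Prop where
  inj : Function.Injective ρ
  core : ∀ N : Subgroup Γ, N.Normal → IsPGroup 2 N → N = ⊥

/-- `g` acts as the transvection `v ↦ v + f(v) w` -/
structure Is (ρ : Γ →* Module.End (ZMod 2) M) (g : Γ) (w : M) (f : M →ₗ[ZMod 2] ZMod 2) : Prop where
  w0 : w ≠ 0
  f0 : f ≠ 0
  e : ∀ v, ρ g v = v + f v • w

section

variable (ρ : Γ →* Module.End (ZMod 2) M)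

theorem ap_mul (g h : Γ) (v : M) : ρ (g * h) v = ρ g (ρ h v) := by rw [map_mul]; rfl

theorem ap_one (v : M) : ρ 1 v = v := by rw [map_one]; rfl

theorem inv_ap (g : Γ) (v : M) : ρ g⁻¹ (ρ g v) = v := by rw [← ap_mul, inv_mul_cancel, ap_one]

theorem ap_inv (g : Γ) (v : M) : ρ g (ρ g⁻¹ v) = v := by rw [← ap_mul, mul_inv_cancel, ap_one]

end

theorem exists_one {f : M →ₗ[ZMod 2] ZMod 2} (hf : f ≠ 0) : ∃ v, f v = 1 := by
  by_contra hcon
  push Not at hcon
  exact hf (LinearMap.ext fun v => (z2 (f v)).resolve_right (hcon v))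

variable {ρ : Γ →* Module.End (ZMod 2) M}

theorem Dt.ext (D : Dt ρ) {g h : Γ} (e : ∀ v, ρ g v = ρ h v) : g = h := D.inj (LinearMap.ext e)

theorem Is.fw {g : Γ} {w : M} {f : M →ₗ[ZMod 2] ZMod 2} (h : Is ρ g w f) : f w = 0 := by
  rcases z2 (f w) with a | a
  · exact a
  exfalso
  have e := h.e w
  rw [a, one_smul, addself] at e
  apply h.w0
  rw [← inv_ap ρ g w, e, map_zero]

theorem Is.gg (D : Dt ρ) {g : Γ} {w : M} {f : M →ₗ[ZMod 2] ZMod 2} (h : Is ρ g w f) : g * g = 1 := by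
  apply D.ext
  intro v
  rw [ap_mul, ap_one, h.e, h.e, map_add, map_smul, h.fw, smul_zero, add_zero, add_assoc, ← add_smul, z2add,
    zero_smul, add_zero]

theorem Is.inv (D : Dt ρ) {g : Γ} {w : M} {f : M →ₗ[ZMod 2] ZMod 2} (h : Is ρ g w f) : g⁻¹ = g :=
  inv_eq_of_mul_eq_one_left (h.gg D)

/-- the conjugate functional -/
abbrev cf (ρ : Γ →* Module.End (ZMod 2) M) (k : Γ) (f : M →ₗ[ZMod 2] ZMod 2) : M →ₗ[ZMod 2] ZMod 2 :=
  f.comp (ρ k⁻¹)

theorem cf_apply (k : Γ) (f : M →ₗ[ZMod 2] ZMod 2) (v : M) : cf ρ k f v = f (ρ k⁻¹ v) := rfl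

theorem cf_ap (k : Γ) (f : M →ₗ[ZMod 2] ZMod 2) (v : M) : cf ρ k f (ρ k v) = f v := by
  rw [cf_apply, inv_ap]

theorem cf_inj (k : Γ) : Function.Injective (cf ρ k) := by
  intro f f' h
  ext v
  rw [← cf_ap (ρ := ρ) k f v, h, cf_ap]

theorem cf_ne {k : Γ} {f : M →ₗ[ZMod 2] ZMod 2} (hf : f ≠ 0) : cf ρ k f ≠ 0 := by
  intro h
  apply hf
  apply cf_inj (ρ := ρ) k
  rw [h]; rfl

theorem ap_ne {k : Γ} {w : M} (hw : w ≠ 0) : ρ k w ≠ 0 := by
  intro h
  apply hw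
  rw [← inv_ap ρ k w, h, map_zero]

theorem Is.conj {g : Γ} {w : M} {f : M →ₗ[ZMod 2] ZMod 2} (h : Is ρ g w f) (k : Γ) :
    Is ρ (k * g * k⁻¹) (ρ k w) (cf ρ k f) where
  w0 := ap_ne h.w0
  f0 := cf_ne h.f0
  e := by
    intro v
    rw [ap_mul, ap_mul, h.e, map_add, map_smul, ap_inv, cf_apply]

/-- the commutator of two transvections -/
theorem comm_one {x y : Γ} {u w : M} {f k : M →ₗ[ZMod 2] ZMod 2} (hx : Is ρ x u f) (hy : Is ρ y w k)
    (h1 : f w = 1) (h0 : k u = 0) : Is ρ (x * y * (x * y)) u k where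
  w0 := hx.w0
  f0 := hy.f0
  e := by
    intro v
    rw [ap_mul, ap_mul, ap_mul, hy.e v, hx.e, hy.e, hx.e]
    simp only [map_add, map_smul, h1, h0, hx.fw, hy.fw, add_zero, smul_eq_mul, mul_one, mul_zero]
    linear_combination (norm := module) f v • addself u + k v • addself w + k v • addself u

theorem comm_zero (D : Dt ρ) {x y : Γ} {u w : M} {f k : M →ₗ[ZMod 2] ZMod 2} (hx : Is ρ x u f) (hy : Is ρ y w k)
    (h1 : f w = 0) (h0 : k u = 0) : x * y * (x * y) = 1 := by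
  apply D.ext
  intro v
  rw [ap_one, ap_mul, ap_mul, ap_mul, hy.e v, hx.e, hy.e, hx.e]
  simp only [map_add, map_smul, h1, h0, hx.fw, hy.fw, add_zero, smul_eq_mul, mul_zero]
  linear_combination (norm := module) f v • addself u + k v • addself w

/-- the braid relation: `x y x = y x y` -/
theorem braid (D : Dt ρ) {x y : Γ} {u w : M} {f k : M →ₗ[ZMod 2] ZMod 2} (hx : Is ρ x u f) (hy : Is ρ y w k)
    (h1 : f w = 1) (h0 : k u = 1) : x * y * x = y * x * y := by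
  apply D.ext
  intro v
  rw [ap_mul, ap_mul, ap_mul, ap_mul, hx.e v, hy.e, hx.e, hy.e v, hx.e, hy.e]
  simp only [map_add, map_smul, h1, h0, hx.fw, hy.fw, add_zero, smul_eq_mul, mul_one, mul_zero]
  linear_combination (norm := module) f v • addself u - k v • addself w

theorem Is.ne {x y : Γ} {u w : M} {f k : M →ₗ[ZMod 2] ZMod 2} (hx : Is ρ x u f) (hy : Is ρ y w k)
    (h1 : f w = 1) : x ≠ y := by
  rintro rfl
  have e1 := hx.e w
  rw [h1, one_smul, hy.e w, hy.fw, zero_smul, add_zero] at e1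
  exact hx.w0 (by simpa using e1.symm)

/-- two neighbours are not in a common 2-group -/
theorem not_two (D : Dt ρ) {N : Subgroup Γ} (hN : IsPGroup 2 N) {x y : Γ} (xN : x ∈ N) (yN : y ∈ N) {u w : M}
    {f k : M →ₗ[ZMod 2] ZMod 2} (hx : Is ρ x u f) (hy : Is ρ y w k) (h1 : f w = 1) (h0 : k u = 1) : False := by
  have hb := braid D hx hy h1 h0
  have h3 : (x * y) ^ 3 = 1 := by
    have : (x * y) ^ 3 = (x * y * x) * (y * x * y) := by simp only [pow_succ, pow_zero, one_mul, mul_assoc]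
    rw [this, ← hb]
    calc x * y * x * (x * y * x) = x * y * (x * x) * y * x := by group
      _ = x * (y * y) * x := by rw [hx.gg D]; group
      _ = 1 := by rw [hy.gg D, mul_one, hx.gg D]
  obtain ⟨n, hn⟩ := hN ⟨x * y, N.mul_mem xN yN⟩
  have hn' : (x * y) ^ (2 ^ n) = 1 := congrArg Subtype.val hn
  have h4 : orderOf (x * y) ∣ 1 := by
    have hc : Nat.Coprime 3 (2 ^ n) := Nat.Coprime.pow_right _ (by decide)
    have := Nat.dvd_gcd (orderOf_dvd_of_pow_eq_one h3) (orderOf_dvd_of_pow_eq_one hn')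
    rwa [hc] at this
  have h5 : x * y = 1 := orderOf_eq_one_iff.mp (Nat.dvd_one.mp h4)
  apply hx.ne hy h1
  rw [← hy.inv D]
  exact eq_inv_of_mul_eq_one_left h5

theorem isPGroup_pair {t s : Γ} (ht : t * t = 1) (hs : s * s = 1) (h : (t * s) ^ 4 = 1) :
    IsPGroup 2 (Subgroup.closure {t, s} : Subgroup Γ) := by
  have htinv : t⁻¹ = t := inv_eq_of_mul_eq_one_left ht
  have hsinv : s⁻¹ = s := inv_eq_of_mul_eq_one_left hs
  have hinv : t * (t * s) * t⁻¹ = (t * s)⁻¹ := by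
    rw [mul_inv_rev, hsinv, htinv]
    calc t * (t * s) * t = (t * t) * s * t := by group
      _ = s * t := by rw [ht, one_mul]
  have hA : IsPGroup 2 (Subgroup.zpowers (t * s)) := by
    rintro ⟨x, hx⟩
    obtain ⟨n, rfl⟩ := Subgroup.mem_zpowers_iff.1 hx
    refine ⟨2, Subtype.ext ?_⟩
    change ((t * s) ^ n) ^ (2 ^ 2) = 1
    rw [← zpow_natCast, ← zpow_mul, mul_comm, zpow_mul, zpow_natCast]
    have : (2 : ℕ) ^ 2 = 4 := rfl
    rw [this, h, one_zpow]
  have hT : IsPGroup 2 (Subgroup.zpowers t) := by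
    rintro ⟨x, hx⟩
    obtain ⟨n, rfl⟩ := Subgroup.mem_zpowers_iff.1 hx
    refine ⟨1, Subtype.ext ?_⟩
    have h1 : (t ^ n) ^ 2 = 1 := by
      rw [pow_two, ← zpow_add, ← two_mul, zpow_mul]
      norm_cast
      rw [pow_two, ht, one_zpow]
    simpa using h1
  have hnorm : Subgroup.zpowers t ≤ Subgroup.normalizer ((Subgroup.zpowers (t * s) : Subgroup Γ) : Set Γ) := by
    rw [Subgroup.zpowers_le, Subgroup.mem_normalizer_iff]
    have hfor : ∀ h ∈ Subgroup.zpowers (t * s), t * h * t⁻¹ ∈ Subgroup.zpowers (t * s) := by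
      rintro h ⟨n, rfl⟩
      simp only
      rw [← conj_zpow, hinv]
      exact ⟨-n, by simp only [zpow_neg, inv_zpow]⟩
    intro h
    refine ⟨hfor h, fun hh => ?_⟩
    have := hfor _ hh
    rw [htinv] at this
    have h2 : t * (t * h * t) * t = h := by
      calc t * (t * h * t) * t = (t * t) * h * (t * t) := by group
        _ = h := by rw [ht]; group
    rwa [h2] at this
  refine (IsPGroup.to_sup_of_normal_left' hA hT hnorm).to_le ?_
  rw [Subgroup.closure_le]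
  intro w hw
  rcases hw with rfl | hw
  · exact Subgroup.mem_sup_right (Subgroup.mem_zpowers _)
  · rw [Set.mem_singleton_iff] at hw
    subst hw
    have h1 : t * (t * w) = w := by rw [← mul_assoc, ht, one_mul]
    have h2 : t * (t * w) ∈ Subgroup.zpowers (t * w) ⊔ Subgroup.zpowers t :=
      mul_mem (Subgroup.mem_sup_right (Subgroup.mem_zpowers _)) (Subgroup.mem_sup_left (Subgroup.mem_zpowers _))
    rwa [h1] at h2

/-- **every transvection has a neighbour** -/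
theorem Dt.nb [Finite Γ] (D : Dt ρ) {g : Γ} {w : M} {f : M →ₗ[ZMod 2] ZMod 2} (hg : Is ρ g w f) :
    ∃ g' w' f', Is ρ g' w' f' ∧ f w' = 1 ∧ f' w = 1 := by
  by_contra hcon
  push Not at hcon
  have hf : Fact (Nat.Prime 2) := ⟨Nat.prime_two⟩
  have hp : IsPGroup 2 (Subgroup.normalClosure {g} : Subgroup Γ) := by
    refine Involutions.BaerSuzuki.baer_suzuki_element g fun k => ?_
    have hk := hg.conj k
    refine isPGroup_pair (hg.gg D) (hk.gg D) ?_
    have e4 : (g * (k * g * k⁻¹)) ^ 4 = (g * (k * g * k⁻¹) * (g * (k * g * k⁻¹))) *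
        (g * (k * g * k⁻¹) * (g * (k * g * k⁻¹))) := by
      simp only [pow_succ, pow_zero, one_mul, mul_assoc]
    rw [e4]
    rcases z2 (f (ρ k w)) with a | a
    · rcases z2 (cf ρ k f w) with b | b
      · rw [comm_zero D hg hk a b, one_mul]
      · have h1 := comm_one hk hg b a
        have h2 := h1.gg D
        set s := k * g * k⁻¹ with hs
        have e5 : s * g * (s * g) = (g * s * (g * s))⁻¹ := by
          rw [mul_inv_rev, mul_inv_rev, hg.inv D, hk.inv D]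
        rw [e5, ← mul_inv_rev] at h2
        exact inv_eq_one.mp h2
    · rcases z2 (cf ρ k f w) with b | b
      · exact (comm_one hg hk a b).gg D
      · exact absurd b (hcon _ _ _ hk a)
  have h1 := D.core _ Subgroup.normalClosure_normal hp
  have h2 : g ∈ Subgroup.normalClosure ({g} : Set Γ) := Subgroup.subset_normalClosure (by simp)
  rw [h1, mem_bot] at h2
  obtain ⟨v, hv⟩ := exists_one hg.f0
  have h3 := hg.e v
  rw [h2, ap_one, hv, one_smul] at h3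
  exact hg.w0 (by simpa using h3.symm)

/-! ### components -/

/-- neighbours -/
def Ed (ρ : Γ →* Module.End (ZMod 2) M) (p q : M × (M →ₗ[ZMod 2] ZMod 2)) : Prop :=
  (∃ g, Is ρ g p.1 p.2) ∧ (∃ g, Is ρ g q.1 q.2) ∧ p.2 q.1 = 1 ∧ q.2 p.1 = 1

/-- connected -/
def Co (ρ : Γ →* Module.End (ZMod 2) M) : M × (M →ₗ[ZMod 2] ZMod 2) → M × (M →ₗ[ZMod 2] ZMod 2) → Prop :=
  Relation.ReflTransGen (Ed ρ)

theorem Ed.symm {p q : M × (M →ₗ[ZMod 2] ZMod 2)} (h : Ed ρ p q) : Ed ρ q p :=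
  ⟨h.2.1, h.1, h.2.2.2, h.2.2.1⟩

theorem Co.symm {p q : M × (M →ₗ[ZMod 2] ZMod 2)} (h : Co ρ p q) : Co ρ q p := by
  induction h with
  | refl => exact Relation.ReflTransGen.refl
  | tail _ h2 ih => exact Relation.ReflTransGen.head h2.symm ih

theorem Co.trans {p q r : M × (M →ₗ[ZMod 2] ZMod 2)} (h : Co ρ p q) (h' : Co ρ q r) : Co ρ p r :=
  Relation.ReflTransGen.trans h h'

theorem Ed.co {p q : M × (M →ₗ[ZMod 2] ZMod 2)} (h : Ed ρ p q) : Co ρ p q := Relation.ReflTransGen.single h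

/-- the conjugate of a node -/
def cn (ρ : Γ →* Module.End (ZMod 2) M) (k : Γ) (p : M × (M →ₗ[ZMod 2] ZMod 2)) :
    M × (M →ₗ[ZMod 2] ZMod 2) := (ρ k p.1, cf ρ k p.2)

theorem Ed.conj {p q : M × (M →ₗ[ZMod 2] ZMod 2)} (h : Ed ρ p q) (k : Γ) : Ed ρ (cn ρ k p) (cn ρ k q) := by
  obtain ⟨⟨g, hg⟩, ⟨g', hg'⟩, h1, h2⟩ := h
  exact ⟨⟨_, hg.conj k⟩, ⟨_, hg'.conj k⟩, by rw [cn, cn, cf_ap]; exact h1, by rw [cn, cn, cf_ap]; exact h2⟩

theorem Co.conj {p q : M × (M →ₗ[ZMod 2] ZMod 2)} (h : Co ρ p q) (k : Γ) : Co ρ (cn ρ k p) (cn ρ k q) := by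
  induction h with
  | refl => exact Relation.ReflTransGen.refl
  | tail _ h2 ih => exact Relation.ReflTransGen.tail ih (h2.conj k)

/-- connected nodes have conjugate centres -/
theorem Co.exists_conj {p q : M × (M →ₗ[ZMod 2] ZMod 2)} (h : Co ρ p q) : ∃ k, ρ k p.1 = q.1 := by
  induction h with
  | refl => exact ⟨1, ap_one ρ _⟩
  | @tail r s _ h2 ih =>
    obtain ⟨k, hk⟩ := ih
    obtain ⟨⟨g, hg⟩, ⟨g', hg'⟩, h1, h3⟩ := h2
    refine ⟨g * g' * k, ?_⟩
    rw [ap_mul, ap_mul, hk, hg'.e, h3, one_smul, map_add, hg.e, hg.e, hg.fw, h1, zero_smul, one_smul, add_zero]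
    linear_combination (norm := module) addself r.1

/-- **LEMMA COMP** -/
theorem Dt.comp [Finite Γ] (D : Dt ρ) {p q : M × (M →ₗ[ZMod 2] ZMod 2)} (hp : ∃ g, Is ρ g p.1 p.2)
    (hq : ∃ g, Is ρ g q.1 q.2) (h1 : p.2 q.1 = 1) : Co ρ p q := by
  rcases z2 (q.2 p.1) with a | a
  swap
  · exact Ed.co ⟨hp, hq, h1, a⟩
  obtain ⟨x, hx⟩ := hp
  obtain ⟨y, hy⟩ := hq
  obtain ⟨u, f⟩ := p
  obtain ⟨w, k⟩ := q
  simp only at hx hy h1 a
  obtain ⟨g₃, w₃, f₃, hg₃, b1, b2⟩ := D.nb (comm_one hx hy h1 a)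
  -- first move
  obtain ⟨g₄, w₄, f₄, hg₄, c1, c2, c3⟩ : ∃ g₄ w₄ f₄, Is ρ g₄ w₄ f₄ ∧ k w₄ = 1 ∧ f₄ u = 1 ∧ f w₄ = 1 := by
    rcases z2 (f w₃) with d | d
    swap
    · exact ⟨_, _, _, hg₃, b1, b2, d⟩
    · refine ⟨_, _, _, hg₃.conj y, ?_, ?_, ?_⟩
      · rw [hy.e, map_add, map_smul, hy.fw, smul_zero, add_zero, b1]
      · rw [cf_apply, hy.inv D, hy.e, a, zero_smul, add_zero, b2]
      · rw [hy.e, map_add, map_smul, h1, d, b1, one_smul, zero_add]
  obtain ⟨g₅, w₅, f₅, hg₅, e1, e2, e3, e4⟩ : ∃ g₅ w₅ f₅, Is ρ g₅ w₅ f₅ ∧ k w₅ = 1 ∧ f₅ u = 1 ∧ f w₅ = 1 ∧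
      f₅ w = 1 := by
    rcases z2 (f₄ w) with d | d
    swap
    · exact ⟨_, _, _, hg₄, c1, c2, c3, d⟩
    · refine ⟨_, _, _, hg₄.conj x, ?_, ?_, ?_, ?_⟩
      · rw [hx.e, map_add, map_smul, a, smul_zero, add_zero, c1]
      · rw [cf_apply, hx.inv D, hx.e, hx.fw, zero_smul, add_zero, c2]
      · rw [hx.e, map_add, map_smul, hx.fw, smul_zero, add_zero, c3]
      · rw [cf_apply, hx.inv D, hx.e, h1, one_smul, map_add, d, c2, zero_add]
  refine Co.trans (q := (w₅, f₅)) (Ed.co ⟨⟨x, hx⟩, ⟨g₅, hg₅⟩, e3, e2⟩) (Ed.co ⟨⟨g₅, hg₅⟩, ⟨y, hy⟩, e4, e1⟩)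

/-! ### step (i) -/

/-- the property which is constant on the component -/
def Pr (ρ : Γ →* Module.End (ZMod 2) M) (μ : M) (p : M × (M →ₗ[ZMod 2] ZMod 2)) : Prop :=
  (∃ N : Subgroup Γ, IsPGroup 2 N ∧ (∀ h, ρ h (μ + p.1) = μ + p.1 → ∀ n ∈ N, h * n * h⁻¹ ∈ N) ∧
    ∃ g ∈ N, Is ρ g p.1 p.2) ∧ p.2 μ = 0

theorem Pr.step (D : Dt ρ) {μ : M} {p q : M × (M →ₗ[ZMod 2] ZMod 2)} (hP : Pr ρ μ p) (h : Ed ρ p q) :
    Pr ρ μ q := by
  obtain ⟨⟨N, N2, Nn, b, bN, hb⟩, hf⟩ := hP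
  obtain ⟨-, ⟨b', hb'⟩, h1, h2⟩ := h
  obtain ⟨w, f⟩ := p
  obtain ⟨w', f'⟩ := q
  simp only at hb hb' h1 h2 hf Nn
  -- `f'(λ) = 1`
  have h3 : f' (μ + w) = 1 := by
    rcases z2 (f' (μ + w)) with a | a
    swap
    · exact a
    exfalso
    have h4 : b' * b * b'⁻¹ ∈ N := Nn b' (by rw [hb'.e, a, zero_smul, add_zero]) b bN
    refine not_two D N2 bN h4 hb (hb.conj b') ?_ ?_
    · rw [hb'.e, h2, one_smul, map_add, hb.fw, h1, zero_add]
    · rw [cf_apply, hb'.inv D, hb'.e, h2, one_smul, map_add, hb.fw, h1, zero_add]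
  have h4 : f' μ = 0 := by
    rw [map_add, h2] at h3
    rcases z2 (f' μ) with a | a
    · exact a
    · rw [a] at h3; exact absurd h3 (by decide)
  refine ⟨⟨N.map (MulAut.conj (b * b')).toMonoidHom, N2.map _, ?_, b', ?_, hb'⟩, h4⟩
  · intro h hh n hn
    obtain ⟨m, hm, rfl⟩ := hn
    simp only at hh
    -- `b b' (μ + w) = μ + w'`
    have e1 : ρ (b * b') (μ + w) = μ + w' := by
      rw [ap_mul, hb'.e, h3, one_smul, hb.e, map_add, map_add, hf, hb.fw, h1, zero_add, zero_add, one_smul]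
      linear_combination (norm := module) addself w
    have e2 : ρ ((b * b')⁻¹ * h * (b * b')) (μ + w) = μ + w := by
      rw [ap_mul, ap_mul, e1, hh, ← e1, inv_ap]
    refine ⟨_, Nn _ e2 m hm, ?_⟩
    change b * b' * ((b * b')⁻¹ * h * (b * b') * m * ((b * b')⁻¹ * h * (b * b'))⁻¹) * (b * b')⁻¹ =
      h * (b * b' * m * (b * b')⁻¹) * h⁻¹
    group
  · refine ⟨b, bN, ?_⟩
    change b * b' * b * (b * b')⁻¹ = b'
    rw [braid D hb hb' h1 h2, mul_inv_rev, hb.inv D, hb'.inv D]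
    calc b' * b * b' * (b' * b) = b' * b * (b' * b') * b := by group
      _ = b' := by rw [hb'.gg D, mul_one, mul_assoc, hb.gg D, mul_one]

theorem Pr.co (D : Dt ρ) {μ : M} {p q : M × (M →ₗ[ZMod 2] ZMod 2)} (hP : Pr ρ μ p) (h : Co ρ p q) :
    Pr ρ μ q := by
  induction h with
  | refl => exact hP
  | tail _ h2 ih => exact ih.step D h2

/-! ### `O₂(Γ) = 1` -/

theorem Dt.core3 (D : Dt ρ) (E R : Submodule (ZMod 2) M) (hE : ∀ k, ∀ e ∈ E, ρ k e ∈ E)
    (hR : ∀ k, ∀ e ∈ R, ρ k e ∈ R) {g : Γ} (h1 : ∀ v, ρ g v + v ∈ E) (h2 : ∀ e ∈ E, ρ g e + e ∈ R)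
    (h3 : ∀ r ∈ R, ρ g r = r) : g = 1 := by
  let N : Subgroup Γ :=
    { carrier := {g | (∀ v, ρ g v + v ∈ E) ∧ (∀ e ∈ E, ρ g e + e ∈ R) ∧ ∀ r ∈ R, ρ g r = r}
      one_mem' := ⟨fun v => by rw [ap_one, addself]; exact E.zero_mem,
        fun v _ => by rw [ap_one, addself]; exact R.zero_mem, fun r _ => ap_one ρ r⟩
      mul_mem' := by
        rintro a b ⟨a1, a2, a3⟩ ⟨b1, b2, b3⟩
        have key : ∀ v, ρ (a * b) v + v = (ρ a (ρ b v) + ρ b v) + (ρ b v + v) := by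
          intro v
          rw [ap_mul]
          linear_combination (norm := module) (-1 : ZMod 2) • addself (ρ b v)
        refine ⟨fun v => ?_, fun e he => ?_, fun r hr => ?_⟩
        · rw [key]; exact E.add_mem (a1 _) (b1 _)
        · rw [key]; exact R.add_mem (a2 _ (hE b e he)) (b2 e he)
        · rw [ap_mul, b3 r hr, a3 r hr]
      inv_mem' := by
        rintro a ⟨a1, a2, a3⟩
        have key : ∀ v, ρ a⁻¹ v + v = ρ a (ρ a⁻¹ v) + ρ a⁻¹ v := by
          intro v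
          rw [ap_inv, add_comm]
        refine ⟨fun v => ?_, fun e he => ?_, fun r hr => ?_⟩
        · rw [key]; exact a1 _
        · rw [key]; exact a2 _ (hE _ e he)
        · conv_lhs => rw [← a3 r hr]
          exact inv_ap ρ a r }
  have hn : N.Normal := by
    refine ⟨fun a ha k => ?_⟩
    obtain ⟨a1, a2, a3⟩ := ha
    have key : ∀ v, ρ (k * a * k⁻¹) v + v = ρ k (ρ a (ρ k⁻¹ v) + ρ k⁻¹ v) := by
      intro v
      rw [ap_mul, ap_mul, map_add, ap_inv]
    refine ⟨fun v => ?_, fun e he => ?_, fun r hr => ?_⟩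
    · rw [key]; exact hE k _ (a1 _)
    · rw [key]; exact hR k _ (a2 _ (hE _ e he))
    · rw [ap_mul, ap_mul, a3 _ (hR _ r hr), ap_inv]
  have h2' : IsPGroup 2 N := by
    rintro ⟨a, a1, a2, a3⟩
    refine ⟨2, Subtype.ext ?_⟩
    change a ^ (2 ^ 2) = 1
    apply D.ext
    intro v
    have e1 : a ^ (2 ^ 2) = a * (a * (a * a)) := by
      rw [show (2 : ℕ) ^ 2 = 4 from rfl]
      simp only [pow_succ, pow_zero, one_mul, mul_assoc]
    have key : ∀ v, ∃ r ∈ R, ρ a (ρ a v) = v + r := by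
      intro v
      refine ⟨_, a2 _ (a1 v), ?_⟩
      rw [map_add]
      linear_combination (norm := module) (-1 : ZMod 2) • addself (ρ a v) + (-1 : ZMod 2) • addself v
    rw [e1, ap_mul, ap_mul, ap_mul, ap_one]
    obtain ⟨r, hr, e2⟩ := key v
    rw [e2, map_add, map_add, a3 r hr, a3 r hr, e2, add_assoc, addself, add_zero]
  have h4 : g ∈ N := ⟨h1, h2, h3⟩
  rw [D.core N hn h2'] at h4
  exact mem_bot.mp h4

/-! ### step (ii) -/

/-- `E` : the span of the centres -/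
def Ec (ρ : Γ →* Module.End (ZMod 2) M) : Submodule (ZMod 2) M :=
  Submodule.span (ZMod 2) {u | ∃ g f, Is ρ g u f}

/-- `R` : the common kernel of the functionals -/
def Rc (ρ : Γ →* Module.End (ZMod 2) M) : Submodule (ZMod 2) M where
  carrier := {v | ∀ g u f, Is ρ g u f → f v = 0}
  zero_mem' := fun _ _ _ _ => map_zero _
  add_mem' := fun ha hb g u f h => by rw [map_add, ha g u f h, hb g u f h, add_zero]
  smul_mem' := fun c v hv g u f h => by rw [map_smul, hv g u f h, smul_zero]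

theorem Ec_inv (k : Γ) {e : M} (he : e ∈ Ec ρ) : ρ k e ∈ Ec ρ := by
  induction he using Submodule.span_induction with
  | mem u hu =>
    obtain ⟨g, f, h⟩ := hu
    exact Submodule.subset_span ⟨_, _, h.conj k⟩
  | zero => rw [map_zero]; exact Submodule.zero_mem _
  | add u v _ _ hu hv => rw [map_add]; exact Submodule.add_mem _ hu hv
  | smul c u _ hu => rw [map_smul]; exact Submodule.smul_mem _ c hu

theorem Rc_inv (k : Γ) {e : M} (he : e ∈ Rc ρ) : ρ k e ∈ Rc ρ := by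
  intro g u f h
  have h1 := he _ _ _ (h.conj k⁻¹)
  rwa [cf_apply, inv_inv] at h1

/-- `f = f'` on the centres, hence on `E` -/
theorem eq_on_Ec {f f' : M →ₗ[ZMod 2] ZMod 2} (h : ∀ g u k, Is ρ g u k → f u = f' u) {e : M} (he : e ∈ Ec ρ) :
    f e = f' e := by
  induction he using Submodule.span_induction with
  | mem u hu =>
    obtain ⟨g, k, h1⟩ := hu
    exact h g u k h1
  | zero => rw [map_zero, map_zero]
  | add u v _ _ hu hv => rw [map_add, map_add, hu, hv]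
  | smul c u _ hu => rw [map_smul, map_smul, hu]

section two

variable [Finite Γ] (D : Dt ρ) {b : Γ} {w : M} {f : M →ₗ[ZMod 2] ZMod 2} {t : Γ}
include D

/-- case A: `f^t = f` on `E` -/
theorem Dt.caseA (hb : Is ρ b w f) (hr : w + ρ t w ∈ Rc ρ) (hE : ∀ g u k, Is ρ g u k → f u = cf ρ t f u) :
    ρ t w = w := by
  have hbt := hb.conj t
  have h0 : f (ρ t w) = 0 := by
    have := hr _ _ _ hb
    rwa [map_add, hb.fw, zero_add] at this
  have hv : ∀ v, ρ (b * (t * b * t⁻¹)) v = v + cf ρ t f v • ρ t w + f v • w := by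
    intro v
    rw [ap_mul, hbt.e, hb.e, map_add, map_smul, h0, smul_zero, add_zero]
  have wE : w ∈ Ec ρ := Submodule.subset_span ⟨_, _, hb⟩
  have h1 : b * (t * b * t⁻¹) = 1 := by
    refine D.core3 (Ec ρ) (Rc ρ) (fun k e he => Ec_inv k he) (fun k e he => Rc_inv k he) (fun v => ?_)
      (fun e he => ?_) fun r hr' => ?_
    · rw [hv]
      have : v + cf ρ t f v • ρ t w + f v • w + v = cf ρ t f v • ρ t w + f v • w := by
        linear_combination (norm := module) addself v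
      rw [this]
      exact Submodule.add_mem _ (Submodule.smul_mem _ _ (Ec_inv t wE)) (Submodule.smul_mem _ _ wE)
    · rw [hv, ← eq_on_Ec hE he]
      have : e + f e • ρ t w + f e • w + e = f e • (w + ρ t w) := by
        linear_combination (norm := module) addself e
      rw [this]
      exact Submodule.smul_mem _ _ hr
    · rw [hv, hr' _ _ _ hbt, hr' _ _ _ hb, zero_smul, zero_smul, add_zero, add_zero]
  obtain ⟨v, hf⟩ := exists_one hb.f0
  have h2 := hv v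
  rw [h1, ap_one, hf, one_smul] at h2
  rcases z2 (cf ρ t f v) with a | a
  · rw [a, zero_smul, add_zero] at h2
    exact absurd (by simpa using h2.symm) hb.w0
  · rw [a, one_smul] at h2
    linear_combination (norm := module) (-1 : ZMod 2) • h2 - addself w

/-- case B: some centre has `f(w') = 1`, `f^t(w') = 0` -/
theorem Dt.caseB [Finite M] (hb : Is ρ b w f) (hr : w + ρ t w ∈ Rc ρ) {b' : Γ} {w' : M}
    {f' : M →ₗ[ZMod 2] ZMod 2} (hb' : Is ρ b' w' f') (h1 : f w' = 1) (h2 : cf ρ t f w' = 0) : ρ t w = w := by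
  have hfin : Finite (M →ₗ[ZMod 2] ZMod 2) := DFunLike.finite _
  have hbt := hb.conj t
  -- a transvection `(k, w')` with `k(w) = 1`
  obtain ⟨k, ⟨g, hg⟩, hk⟩ : ∃ k, (∃ g, Is ρ g w' k) ∧ k w = 1 := by
    by_contra hcon
    push Not at hcon
    obtain ⟨c, hc⟩ := (D.comp (p := (w, f)) (q := (w', f')) ⟨b, hb⟩ ⟨b', hb'⟩ h1).exists_conj
    simp only at hc
    let F : M → Set (M →ₗ[ZMod 2] ZMod 2) := fun u => {k | ∃ g, Is ρ g u k}
    have hsub : F w' ⊆ F w := by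
      rintro k ⟨g, hg⟩
      have hk : k w = 0 := (z2 _).resolve_right (hcon k ⟨g, hg⟩)
      exact ⟨_, comm_one hb hg h1 hk⟩
    have hle : (F w).ncard ≤ (F w').ncard := by
      refine Set.ncard_le_ncard_of_injOn (cf ρ c) ?_ (cf_inj c).injOn (Set.toFinite _)
      rintro k ⟨g, hg⟩
      exact ⟨_, by rw [← hc]; exact hg.conj c⟩
    have heq := Set.eq_of_subset_of_ncard_le hsub hle (Set.toFinite _)
    have hm : f ∈ F w' := by rw [heq]; exact ⟨b, hb⟩
    obtain ⟨g, hg⟩ := hm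
    have := hg.fw
    rw [h1] at this
    exact one_ne_zero this
  have h3 : k (ρ t w) = 1 := by
    have := hr _ _ _ hg
    rw [map_add, hk] at this
    rcases z2 (k (ρ t w)) with a | a
    · rw [a] at this; exact absurd this (by decide)
    · exact a
  have z1 := comm_one hg hbt h3 h2
  have h4 : cf ρ t f w = 0 := by
    have := hr _ _ _ hbt
    rwa [map_add, cf_ap, hb.fw, add_zero] at this
  have z3 := comm_one hb z1 h1 h4
  by_contra hne
  have hr0 : w + ρ t w ≠ 0 := by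
    intro e
    apply hne
    linear_combination (norm := module) e - addself w
  have z4 : Is ρ (b * (g * (t * b * t⁻¹) * (g * (t * b * t⁻¹))) * (b * (g * (t * b * t⁻¹) *
      (g * (t * b * t⁻¹)))) * (t * b * t⁻¹)) (w + ρ t w) (cf ρ t f) := by
    refine ⟨hr0, hbt.f0, fun v => ?_⟩
    rw [ap_mul, z3.e, hbt.e, map_add, map_smul, cf_ap, hb.fw, smul_zero, add_zero]
    module
  obtain ⟨_, _, f'', h5, -, h6⟩ := D.nb z4
  have := hr _ _ _ h5
  rw [h6] at this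
  exact one_ne_zero this

/-- **(ii)** -/
theorem Dt.fixed [Finite M] (hb : Is ρ b w f) {N : Subgroup Γ} (N2 : IsPGroup 2 N) (bN : b ∈ N) {v₀ : M}
    (Nn : ∀ h, ρ h v₀ = v₀ → ∀ n ∈ N, h * n * h⁻¹ ∈ N) (Nv : ∀ n ∈ N, ρ n v₀ = v₀) (ht : ρ t v₀ = v₀)
    (hc : Co ρ (w, f) (cn ρ t (w, f))) : ρ t w = w := by
  have hbt := hb.conj t
  have hfv : f v₀ = 0 := by
    have := hb.e v₀
    rw [Nv b bN] at this
    rcases z2 (f v₀) with a | a
    · exact a
    · rw [a, one_smul] at this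
      exact absurd (by simpa using this.symm) hb.w0
  have ht' : ρ t⁻¹ v₀ = v₀ := by conv_lhs => rw [← ht, inv_ap]
  have P1 : Pr ρ (v₀ + w) (w, f) := by
    refine ⟨⟨N, N2, fun h hh => Nn h ?_, b, bN, hb⟩, ?_⟩
    · have e : v₀ + w + w = v₀ := by rw [add_assoc, addself, add_zero]
      rwa [e] at hh
    · change f (v₀ + w) = 0
      rw [map_add, hfv, hb.fw, add_zero]
  have P2 : Pr ρ (v₀ + ρ t w) (cn ρ t (w, f)) := by
    refine ⟨⟨N, N2, fun h hh => Nn h ?_, t * b * t⁻¹, Nn t ht b bN, hbt⟩, ?_⟩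
    · have e : v₀ + ρ t w + ρ t w = v₀ := by rw [add_assoc, addself, add_zero]
      change ρ h (v₀ + ρ t w + ρ t w) = v₀ + ρ t w + ρ t w at hh
      rwa [e] at hh
    · change f (ρ t⁻¹ (v₀ + ρ t w)) = 0
      rw [map_add, ht', inv_ap, map_add, hfv, hb.fw, add_zero]
  have hr : w + ρ t w ∈ Rc ρ := by
    intro g u k hg
    have e : w + ρ t w = (v₀ + w) + (v₀ + ρ t w) := by
      linear_combination (norm := module) (-1 : ZMod 2) • addself v₀
    by_cases h : Co ρ (w, f) (u, k)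
    · have q1 := (P1.co D h).2
      have q2 := (P2.co D (hc.symm.trans h)).2
      simp only at q1 q2
      rw [e, map_add, q1, q2, add_zero]
    · have q1 : k w = 0 := by
        rcases z2 (k w) with a | a
        · exact a
        · exact absurd (D.comp (p := (u, k)) (q := (w, f)) ⟨g, hg⟩ ⟨b, hb⟩ a).symm h
      have q2 : k (ρ t w) = 0 := by
        rcases z2 (k (ρ t w)) with a | a
        · exact a
        · exact absurd (hc.trans (D.comp (p := (u, k)) (q := cn ρ t (w, f)) ⟨g, hg⟩ ⟨_, hbt⟩ a).symm) h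
      rw [map_add, q1, q2, add_zero]
  by_cases hE : ∀ g u k, Is ρ g u k → f u = cf ρ t f u
  · exact D.caseA hb hr hE
  push Not at hE
  obtain ⟨g, u, k, hg, hne⟩ := hE
  rcases z2 (f u) with a | a
  · -- use `t⁻¹`
    have a' : cf ρ t f u = 1 := by
      rcases z2 (cf ρ t f u) with a' | a'
      · exact absurd (a.trans a'.symm) hne
      · exact a'
    have hr' : w + ρ t⁻¹ w ∈ Rc ρ := by
      have := Rc_inv t⁻¹ hr
      rw [map_add, inv_ap, add_comm] at this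
      exact this
    have := D.caseB hb hr' (hg.conj t⁻¹) (h1 := a') (h2 := by rw [cf_apply, inv_inv, ap_inv]; exact a)
    conv_lhs => rw [← this]
    exact ap_inv ρ t w
  · have a' : cf ρ t f u = 0 := by
      rcases z2 (cf ρ t f u) with a' | a'
      · exact a'
      · exact absurd (a.trans a'.symm) hne
    exact D.caseB hb hr hg a a'

/-- **THEOREM TR, abstract form** -/
theorem Dt.main [Finite M] (hb : Is ρ b w f) {N : Subgroup Γ} (N2 : IsPGroup 2 N) (bN : b ∈ N) {v₀ : M}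
    (Nn : ∀ h, ρ h v₀ = v₀ → ∀ n ∈ N, h * n * h⁻¹ ∈ N) (Nv : ∀ n ∈ N, ρ n v₀ = v₀) :
    ∃ f' : M →ₗ[ZMod 2] ZMod 2, f' w = 1 ∧ ∀ t, ρ t v₀ = v₀ → ρ t w ≠ w → f' (ρ t w) = 0 := by
  obtain ⟨b', w', f', hb', h1, h2⟩ := D.nb hb
  refine ⟨f', h2, fun t ht hne => ?_⟩
  rcases z2 (f' (ρ t w)) with a | a
  · exact a
  exfalso
  apply hne
  refine D.fixed hb N2 bN Nn Nv ht ?_
  exact (D.comp (p := (w, f)) (q := (w', f')) ⟨b, hb⟩ ⟨b', hb'⟩ h1).trans
    (D.comp (p := (w', f')) (q := cn ρ t (w, f)) ⟨b', hb'⟩ ⟨_, hb.conj t⟩ a)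

end two

end Cfsg.Agent.Omega.FOne.NOv.TrA

end

section


/-!
# THEOREM A (helper297 #20655, referee helper270 #21082): the frame and the K-free part

`ρ : Γ → End(M)` faithful, `B` an atom (`|B||C_M(B)| = |M|`, quadratic), `B ≤ L` trivial on `M / X`,
`Y = C_L(X)`, `Φ : Y → X^*` an `L`-equivariant homomorphism with `Φ(u')([m,u]) = Φ(u)([m,u'])`, moved by `B`.

* `Fr.two` : `u ∈ Y` commutes with `B`, or `M = [M,u] + C_M(B)`;
* `Fr.sep` : in the second case `Φ(u)` is not trivial on `[X, b]`, `1 ≠ b ∈ B`;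
* `Fr.Mn Y₁` : `Y₁` is a minimal `L`-invariant subgroup of `Y` moved by `B`.
-/

set_option autoImplicit false
set_option linter.unusedSectionVars false

namespace Cfsg.Agent.Omega.FOne.ThmA

open Subgroup
open Cfsg.Agent.Omega.FOne.Tvw (z2 addself z2add eq_of_add_eq_zero')
open Cfsg.Agent.Omega.FOne.NOv.TrA (ap_mul ap_one inv_ap ap_inv)

universe u

variable {Γ : Type*} {M : Type u} [Group Γ] [AddCommGroup M] [Module (ZMod 2) M]

/-- `m ↦ [m, g]` -/
def dl (ρ : Γ →* Module.End (ZMod 2) M) (g : Γ) : M →ₗ[ZMod 2] M := ρ g + LinearMap.id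

theorem dl_apply (ρ : Γ →* Module.End (ZMod 2) M) (g : Γ) (m : M) : dl ρ g m = ρ g m + m := rfl

theorem ap_eq (ρ : Γ →* Module.End (ZMod 2) M) (g : Γ) (m : M) : ρ g m = m + dl ρ g m := by
  rw [dl_apply]; linear_combination (norm := module) -addself m

theorem dl_eq_zero {ρ : Γ →* Module.End (ZMod 2) M} {g : Γ} {m : M} : dl ρ g m = 0 ↔ ρ g m = m := by
  rw [dl_apply]
  exact ⟨fun h => eq_of_add_eq_zero' h, fun h => by rw [h]; exact addself m⟩

/-- the fixed points -/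
def cv (ρ : Γ →* Module.End (ZMod 2) M) (B : Subgroup Γ) : Submodule (ZMod 2) M where
  carrier := {v | ∀ b ∈ B, ρ b v = v}
  zero_mem' := fun b _ => map_zero _
  add_mem' := fun hv hw b hb => by rw [map_add, hv b hb, hw b hb]
  smul_mem' := fun c v hv b hb => by rw [map_smul, hv b hb]

theorem mem_cv {ρ : Γ →* Module.End (ZMod 2) M} {B : Subgroup Γ} {v : M} :
    v ∈ cv ρ B ↔ ∀ b ∈ B, ρ b v = v := Iff.rfl

theorem cv_anti {ρ : Γ →* Module.End (ZMod 2) M} {B D : Subgroup Γ} (h : D ≤ B) : cv ρ B ≤ cv ρ D :=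
  fun _ hv b hb => hv b (h hb)

/-- the normal closure of `B` in `L` -/
def L1 (B L : Subgroup Γ) : Subgroup Γ := closure {x | ∃ l ∈ L, ∃ b ∈ B, l * b * l⁻¹ = x}

theorem B_le_L1 {B L : Subgroup Γ} : B ≤ L1 B L := fun b hb =>
  subset_closure ⟨1, one_mem _, b, hb, by group⟩

theorem L1_le {B L : Subgroup Γ} (h : B ≤ L) : L1 B L ≤ L := by
  rw [L1, closure_le]
  rintro _ ⟨l, hl, b, hb, rfl⟩
  exact L.mul_mem (L.mul_mem hl (h hb)) (L.inv_mem hl)

theorem L1_conj {B L : Subgroup Γ} {l g : Γ} (hl : l ∈ L) (hg : g ∈ L1 B L) : l * g * l⁻¹ ∈ L1 B L := by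
  induction hg using closure_induction with
  | mem x hx =>
    obtain ⟨k, hk, b, hb, rfl⟩ := hx
    exact subset_closure ⟨l * k, L.mul_mem hl hk, b, hb, by group⟩
  | one => rw [mul_one, mul_inv_cancel]; exact one_mem _
  | mul x y _ _ hx hy =>
    have : l * (x * y) * l⁻¹ = (l * x * l⁻¹) * (l * y * l⁻¹) := by group
    rw [this]; exact mul_mem hx hy
  | inv x _ hx =>
    have : l * x⁻¹ * l⁻¹ = (l * x * l⁻¹)⁻¹ := by group
    rw [this]; exact inv_mem hx

/-- the hypotheses of the abstract THEOREM A -/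
structure Fr (ρ : Γ →* Module.End (ZMod 2) M) (B L N : Subgroup Γ) (X : Submodule (ZMod 2) M)
    (Φ : Γ → M → ZMod 2) : Prop where
  inj : Function.Injective ρ
  BL : B ≤ L
  BN : B ≤ N
  Lm : ∀ l ∈ L, ∀ v, ρ l v + v ∈ X
  sq : ∀ b ∈ B, b * b = 1
  quad : ∀ b ∈ B, ∀ b' ∈ B, ∀ v, ρ b' (ρ b v + v) = ρ b v + v
  ex : Nat.card B * Nat.card (cv ρ B) = Nat.card M
  atom : ∀ D ≤ B, Nat.card D * Nat.card (cv ρ D) = Nat.card M → D = ⊥ ∨ D = B
  no : ∀ A ≤ N, (∀ a ∈ A, a * a = 1) → Nat.card A * Nat.card (cv ρ A) ≤ Nat.card M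
  nN : ∀ u ∈ L, (∀ v ∈ X, ρ u v = v) → ∀ n ∈ N, u * n * u⁻¹ ∈ N
  fX : ∀ b ∈ B, (∀ v ∈ X, ρ b v = v) → b = 1
  rad : ∀ R ≤ L1 B L, (∀ g ∈ L1 B L, ∀ r ∈ R, g * r * g⁻¹ ∈ R) → IsPGroup 2 R → ∀ r ∈ R, ∀ v ∈ X, ρ r v = v
  padd : ∀ u ∈ L, (∀ v ∈ X, ρ u v = v) → ∀ v ∈ X, ∀ w ∈ X, Φ u (v + w) = Φ u v + Φ u w
  pmul : ∀ u ∈ L, (∀ v ∈ X, ρ u v = v) → ∀ u' ∈ L, (∀ v ∈ X, ρ u' v = v) → ∀ v ∈ X,
    Φ (u * u') v = Φ u v + Φ u' v
  pinv : ∀ u ∈ L, (∀ v ∈ X, ρ u v = v) → ∀ l ∈ L, ∀ v ∈ X, Φ (l * u * l⁻¹) (ρ l v) = Φ u v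
  pcomm : ∀ u ∈ L, (∀ v ∈ X, ρ u v = v) → ∀ u' ∈ L, (∀ v ∈ X, ρ u' v = v) → ∀ m,
    Φ u' (ρ u m + m) = Φ u (ρ u' m + m)
  pself : ∀ u ∈ L, (∀ v ∈ X, ρ u v = v) → ∀ m, Φ u (ρ u m + m) = 0
  mv : ∃ u ∈ L, (∀ v ∈ X, ρ u v = v) ∧ ∃ b ∈ B, ∃ v ∈ X, Φ u (ρ b v + v) ≠ 0

/-- `C_L(X)` -/
def YY (ρ : Γ →* Module.End (ZMod 2) M) (L : Subgroup Γ) (X : Submodule (ZMod 2) M) : Subgroup Γ where
  carrier := {u | u ∈ L ∧ ∀ v ∈ X, ρ u v = v}
  one_mem' := ⟨L.one_mem, fun v _ => ap_one ρ v⟩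
  mul_mem' := fun {a b} ha hb => ⟨L.mul_mem ha.1 hb.1, fun v hv => by rw [ap_mul, hb.2 v hv, ha.2 v hv]⟩
  inv_mem' := fun {a} ha => ⟨L.inv_mem ha.1, fun v hv => by
    conv_lhs => rw [← ha.2 v hv]
    exact inv_ap ρ a v⟩

theorem mem_YY {ρ : Γ →* Module.End (ZMod 2) M} {L : Subgroup Γ} {X : Submodule (ZMod 2) M} {u : Γ} :
    u ∈ YY ρ L X ↔ u ∈ L ∧ ∀ v ∈ X, ρ u v = v := Iff.rfl

/-! ### counting -/

theorem card_sup_inf [Finite M] (U V : Submodule (ZMod 2) M) :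
    Nat.card (U ⊔ V : Submodule (ZMod 2) M) * Nat.card (U ⊓ V : Submodule (ZMod 2) M) =
      Nat.card U * Nat.card V := by
  have h1 := Submodule.finrank_sup_add_finrank_inf_eq U V
  rw [Module.natCard_eq_pow_finrank (K := ZMod 2) (V := U), Module.natCard_eq_pow_finrank (K := ZMod 2) (V := V),
    Module.natCard_eq_pow_finrank (K := ZMod 2) (V := (U ⊔ V : Submodule (ZMod 2) M)),
    Module.natCard_eq_pow_finrank (K := ZMod 2) (V := (U ⊓ V : Submodule (ZMod 2) M)), ← pow_add, ← pow_add, h1]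

theorem card_comap [Finite M] (f : M →ₗ[ZMod 2] M) (C : Submodule (ZMod 2) M) :
    Nat.card M * Nat.card (LinearMap.range f ⊓ C : Submodule (ZMod 2) M) =
      Nat.card (LinearMap.range f) * Nat.card (C.comap f) := by
  have h1 := LinearMap.finrank_range_add_finrank_ker f
  let g : C.comap f →ₗ[ZMod 2] M := f.comp (C.comap f).subtype
  have h2 := LinearMap.finrank_range_add_finrank_ker g
  have h3 : LinearMap.range g = LinearMap.range f ⊓ C := by
    ext x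
    constructor
    · rintro ⟨⟨v, hv⟩, rfl⟩
      exact ⟨⟨v, rfl⟩, hv⟩
    · rintro ⟨⟨v, rfl⟩, hv⟩
      exact ⟨⟨v, hv⟩, rfl⟩
  have h4 : Module.finrank (ZMod 2) (LinearMap.ker g) = Module.finrank (ZMod 2) (LinearMap.ker f) := by
    refine LinearEquiv.finrank_eq (LinearEquiv.ofBijective
      ({ toFun := fun x => ⟨x.1.1, x.2⟩
         map_add' := fun _ _ => rfl
         map_smul' := fun _ _ => rfl } : LinearMap.ker g →ₗ[ZMod 2] LinearMap.ker f) ⟨?_, ?_⟩)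
    · intro a b hab
      have h5 := congrArg (fun t : LinearMap.ker f => (t : M)) hab
      exact Subtype.ext (Subtype.ext h5)
    · rintro ⟨v, hv⟩
      refine ⟨⟨⟨v, ?_⟩, hv⟩, rfl⟩
      rw [Submodule.mem_comap, LinearMap.mem_ker.mp hv]
      exact C.zero_mem
  rw [h3, h4] at h2
  rw [Module.natCard_eq_pow_finrank (K := ZMod 2) (V := M),
    Module.natCard_eq_pow_finrank (K := ZMod 2) (V := (LinearMap.range f ⊓ C : Submodule (ZMod 2) M)),
    Module.natCard_eq_pow_finrank (K := ZMod 2) (V := LinearMap.range f),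
    Module.natCard_eq_pow_finrank (K := ZMod 2) (V := C.comap f), ← pow_add, ← pow_add]
  congr 1
  omega

namespace Fr

variable {ρ : Γ →* Module.End (ZMod 2) M} {B L N : Subgroup Γ} {X : Submodule (ZMod 2) M} {Φ : Γ → M → ZMod 2}
  (h : Fr ρ B L N X Φ)
include h

theorem ext {g k : Γ} (e : ∀ v, ρ g v = ρ k v) : g = k := h.inj (LinearMap.ext e)

theorem LX {l : Γ} (hl : l ∈ L) {v : M} (hv : v ∈ X) : ρ l v ∈ X := by
  rw [ap_eq]; exact X.add_mem hv (h.Lm l hl v)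

theorem inv {b : Γ} (hb : b ∈ B) : b⁻¹ = b := inv_eq_of_mul_eq_one_left (h.sq b hb)

variable {u u' : Γ} (hu : u ∈ YY ρ L X) (hu' : u' ∈ YY ρ L X)
include hu

theorem dX (m : M) : dl ρ u m ∈ X := h.Lm u hu.1 m

omit h in
theorem dzero {v : M} (hv : v ∈ X) : dl ρ u v = 0 := dl_eq_zero.mpr (hu.2 v hv)

theorem d_ap {l : Γ} (hl : l ∈ L) (m : M) : dl ρ u (ρ l m) = dl ρ u m := by
  have h1 : dl ρ u (dl ρ l m) = 0 := dzero hu (h.Lm l hl m)
  rw [ap_eq ρ l m, map_add, h1, add_zero]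

theorem usq : u * u = 1 := by
  refine h.ext fun v => ?_
  rw [ap_mul, ap_one, ap_eq ρ u (ρ u v), h.d_ap hu hu.1, ap_eq ρ u v, add_assoc, addself, add_zero]

theorem uinv : u⁻¹ = u := inv_eq_of_mul_eq_one_left (h.usq hu)

theorem conj {l : Γ} (hl : l ∈ L) : l * u * l⁻¹ ∈ YY ρ L X := by
  refine ⟨L.mul_mem (L.mul_mem hl hu.1) (L.inv_mem hl), fun v hv => ?_⟩
  rw [ap_mul, ap_mul, hu.2 _ (h.LX (L.inv_mem hl) hv), ap_inv]

theorem d_conj {l : Γ} (hl : l ∈ L) (m : M) : dl ρ (l * u * l⁻¹) m = ρ l (dl ρ u m) := by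
  have h1 : dl ρ (l * u * l⁻¹) m = ρ l (dl ρ u (ρ l⁻¹ m)) := by
    rw [dl_apply, dl_apply, ap_mul, ap_mul, map_add, ap_inv]
  rw [h1, h.d_ap hu (L.inv_mem hl)]

theorem pconj {l : Γ} (hl : l ∈ L) {v : M} (hv : v ∈ X) : Φ (l * u * l⁻¹) v = Φ u (ρ l⁻¹ v) := by
  have h1 := h.pinv u hu.1 hu.2 l hl (ρ l⁻¹ v) (h.LX (L.inv_mem hl) hv)
  rwa [ap_inv] at h1

theorem pzero : Φ u 0 = 0 := by
  have h1 := h.padd u hu.1 hu.2 0 X.zero_mem 0 X.zero_mem
  rw [add_zero] at h1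
  rcases z2 (Φ u 0) with a | a
  · exact a
  · rw [a] at h1; exact absurd h1 (by decide)

include hu'

theorem d_mul (m : M) : dl ρ (u * u') m = dl ρ u m + dl ρ u' m := by
  have h1 : dl ρ u (ρ u' m) = dl ρ u m := h.d_ap hu hu'.1 m
  rw [dl_apply, ap_mul, ap_eq ρ u, h1, ap_eq ρ u' m]
  linear_combination (norm := module) addself m

theorem pc (m : M) : Φ u' (dl ρ u m) = Φ u (dl ρ u' m) := h.pcomm u hu.1 hu.2 u' hu'.1 hu'.2 m

omit hu'

/-! ### the commutators `[u, b]` -/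

/-- `z_b = [u, b]` -/
theorem z_mem {b : Γ} (hb : b ∈ L) : u * (b * u * b⁻¹) ∈ YY ρ L X := mul_mem hu (h.conj hu hb)

theorem d_z {b : Γ} (hb : b ∈ L) (m : M) : dl ρ (u * (b * u * b⁻¹)) m = dl ρ b (dl ρ u m) := by
  rw [h.d_mul hu (h.conj hu hb), h.d_conj hu hb, dl_apply ρ b, add_comm]

omit hu in
theorem dq {b b' : Γ} (hb : b ∈ B) (hb' : b' ∈ B) (v : M) : dl ρ b' (dl ρ b v) = 0 :=
  dl_eq_zero.mpr (h.quad b hb b' hb' v)

omit hu in
theorem dbb {b b' : Γ} (hb : b ∈ B) (hb' : b' ∈ B) (v : M) : dl ρ (b * b') v = dl ρ b v + dl ρ b' v := by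
  have h1 := h.dq hb' hb v
  rw [dl_apply, ap_mul, ap_eq ρ b' v, map_add, ap_eq ρ b v, ap_eq ρ b (dl ρ b' v), h1]
  linear_combination (norm := module) addself v

/-- the homomorphism `b ↦ [u, b]` -/
theorem zmul {b b' : Γ} (hb : b ∈ B) (hb' : b' ∈ B) :
    u * (b * b' * u * (b * b')⁻¹) = u * (b * u * b⁻¹) * (u * (b' * u * b'⁻¹)) := by
  have hbL := h.BL hb
  have hbL' := h.BL hb'
  refine h.ext fun v => ?_
  rw [ap_eq, ap_eq ρ (u * (b * u * b⁻¹) * (u * (b' * u * b'⁻¹))), h.d_z hu (L.mul_mem hbL hbL'),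
    h.d_mul (h.z_mem hu hbL) (h.z_mem hu hbL'), h.d_z hu hbL, h.d_z hu hbL', h.dbb hb hb']

/-- `[u, B]` -/
def ub (h : Fr ρ B L N X Φ) (u : Γ) (hu : u ∈ YY ρ L X) : B →* Γ where
  toFun b := u * ((b : Γ) * u * (b : Γ)⁻¹)
  map_one' := by
    change u * (1 * u * 1⁻¹) = 1
    rw [inv_one, one_mul, mul_one, h.usq hu]
  map_mul' b b' := h.zmul hu b.2 b'.2

theorem z_mem_N {b : Γ} (hb : b ∈ B) : u * (b * u * b⁻¹) ∈ N := by
  have h1 := N.mul_mem (h.nN u hu.1 hu.2 b (h.BN hb)) (N.inv_mem (h.BN hb))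
  have h2 : u * b * u⁻¹ * b⁻¹ = u * (b * u * b⁻¹) := by rw [h.uinv hu]; group
  rwa [h2] at h1

end Fr

/-! ### (U) -/

/-- `C_B(U)` -/
def cb (ρ : Γ →* Module.End (ZMod 2) M) (B : Subgroup Γ) (U : Submodule (ZMod 2) M) : Subgroup Γ where
  carrier := {b | b ∈ B ∧ ∀ v ∈ U, ρ b v = v}
  one_mem' := ⟨B.one_mem, fun v _ => ap_one ρ v⟩
  mul_mem' := fun {a b} ha hb => ⟨B.mul_mem ha.1 hb.1, fun v hv => by rw [ap_mul, hb.2 v hv, ha.2 v hv]⟩
  inv_mem' := fun {a} ha => ⟨B.inv_mem ha.1, fun v hv => by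
    conv_lhs => rw [← ha.2 v hv]
    exact inv_ap ρ a v⟩

namespace Fr

variable {ρ : Γ →* Module.End (ZMod 2) M} {B L N : Subgroup Γ} {X : Submodule (ZMod 2) M} {Φ : Γ → M → ZMod 2}
  [Finite Γ] [Finite M] (h : Fr ρ B L N X Φ)
include h

/-- **(U)** -/
theorem U_le (U : Submodule (ZMod 2) M) :
    Nat.card (cb ρ B U) * Nat.card U ≤ Nat.card B * Nat.card (U ⊓ cv ρ B : Submodule (ZMod 2) M) ∧
      (Nat.card B * Nat.card (U ⊓ cv ρ B : Submodule (ZMod 2) M) ≤ Nat.card (cb ρ B U) * Nat.card U →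
        (cb ρ B U = ⊥ ∧ U ⊔ cv ρ B = ⊤) ∨ cb ρ B U = B) := by
  set D := cb ρ B U with hD
  have hDB : D ≤ B := fun b hb => hb.1
  have h1 : U ⊔ cv ρ B ≤ cv ρ D := sup_le (fun v hv b hb => hb.2 v hv) (cv_anti hDB)
  have h2 := card_sup_inf U (cv ρ B)
  have h3 : Nat.card (U ⊔ cv ρ B : Submodule (ZMod 2) M) ≤ Nat.card (cv ρ D) :=
    Nat.card_le_card_of_injective (Submodule.inclusion h1) (Submodule.inclusion_injective h1)
  have h4 := h.no D (hDB.trans h.BN) fun a ha => h.sq a (hDB ha)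
  have h5 := h.ex
  have p1 : 0 < Nat.card (cv ρ B) := Nat.card_pos
  have p2 : 0 < Nat.card (U ⊓ cv ρ B : Submodule (ZMod 2) M) := Nat.card_pos
  have p3 : 0 < Nat.card D := Nat.card_pos
  set a := Nat.card (U ⊔ cv ρ B : Submodule (ZMod 2) M)
  set i := Nat.card (U ⊓ cv ρ B : Submodule (ZMod 2) M)
  have h6 : Nat.card D * Nat.card U * Nat.card (cv ρ B) ≤ Nat.card B * i * Nat.card (cv ρ B) := by
    calc Nat.card D * Nat.card U * Nat.card (cv ρ B) = Nat.card D * (a * i) := by rw [h2]; ring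
      _ ≤ Nat.card D * (Nat.card (cv ρ D) * i) := Nat.mul_le_mul_left _ (Nat.mul_le_mul_right _ h3)
      _ = Nat.card D * Nat.card (cv ρ D) * i := by ring
      _ ≤ Nat.card M * i := Nat.mul_le_mul_right _ h4
      _ = Nat.card B * i * Nat.card (cv ρ B) := by rw [← h5]; ring
  refine ⟨Nat.le_of_mul_le_mul_right h6 p1, fun h7 => ?_⟩
  -- equality
  have h8 : Nat.card M * i ≤ Nat.card D * (a * i) := by
    calc Nat.card M * i = Nat.card B * i * Nat.card (cv ρ B) := by rw [← h5]; ring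
      _ ≤ Nat.card D * Nat.card U * Nat.card (cv ρ B) := Nat.mul_le_mul_right _ h7
      _ = Nat.card D * (a * i) := by rw [h2]; ring
  have h9 : Nat.card M ≤ Nat.card D * a := by
    rw [← mul_assoc] at h8
    exact Nat.le_of_mul_le_mul_right h8 p2
  have h10 : Nat.card D * Nat.card (cv ρ D) ≤ Nat.card D * a := h4.trans h9
  have h11 : Nat.card (cv ρ D) ≤ a := Nat.le_of_mul_le_mul_left h10 p3
  have h12 : Nat.card D * Nat.card (cv ρ D) = Nat.card M :=
    le_antisymm h4 (h9.trans (Nat.mul_le_mul_left _ h3))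
  rcases h.atom D hDB h12 with h13 | h13
  · left
    refine ⟨h13, ?_⟩
    have h14 : (cv ρ D : Submodule (ZMod 2) M) = ⊤ := by
      rw [h13, eq_top_iff]
      intro v _ b hb
      rw [mem_bot.mp hb, ap_one]
    rw [h14] at h11 h1
    have h15 : Nat.card (⊤ : Submodule (ZMod 2) M) = Nat.card M :=
      Nat.card_congr (Equiv.subtypeUnivEquiv fun _ => trivial)
    rw [h15] at h11
    have h16 : (U ⊔ cv ρ B : Submodule (ZMod 2) M).toAddSubgroup = ⊤ :=
      AddSubgroup.eq_top_of_le_card _ h11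
    rw [eq_top_iff]
    intro v _
    have : v ∈ (U ⊔ cv ρ B : Submodule (ZMod 2) M).toAddSubgroup := by rw [h16]; trivial
    exact this
  · right; exact h13

/-- `u` is moved by `B` -/
def _root_.Cfsg.Agent.Omega.FOne.ThmA.Mv (ρ : Γ →* Module.End (ZMod 2) M) (B : Subgroup Γ) (u : Γ) : Prop :=
  ∃ b ∈ B, ∃ m, dl ρ b (dl ρ u m) ≠ 0

variable {u : Γ} (hu : u ∈ YY ρ L X)
include hu

/-- **(2)** -/
theorem two (hm : Mv ρ B u) :
    (∀ b ∈ B, (∀ m, dl ρ b (dl ρ u m) = 0) → b = 1) ∧ ∀ v, ∃ m, ∃ w ∈ cv ρ B, v = dl ρ u m + w := by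
  set U := LinearMap.range (dl ρ u) with hU
  -- `[u, B]`
  have hZ := h.no (h.ub u hu).range (by
    rintro _ ⟨b, rfl⟩
    exact h.z_mem_N hu b.2) (by
    rintro _ ⟨b, rfl⟩
    exact h.usq (h.z_mem hu (h.BL b.2)))
  have h1 : cv ρ (h.ub u hu).range = (cv ρ B).comap (dl ρ u) := by
    ext m
    constructor
    · intro hm b hb
      have := hm _ ⟨⟨b, hb⟩, rfl⟩
      rw [← dl_eq_zero] at this
      change dl ρ (u * (b * u * b⁻¹)) m = 0 at this
      rw [h.d_z hu (h.BL hb)] at this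
      exact dl_eq_zero.mp this
    · rintro hm _ ⟨b, rfl⟩
      rw [← dl_eq_zero]
      change dl ρ (u * ((b : Γ) * u * (b : Γ)⁻¹)) m = 0
      rw [h.d_z hu (h.BL b.2)]
      exact dl_eq_zero.mpr (hm b b.2)
  have h2 : Nat.card (h.ub u hu).range * Nat.card (cb ρ B U) = Nat.card B := by
    have h3 : Nat.card (h.ub u hu).ker = Nat.card (cb ρ B U) := by
      refine Nat.card_congr
        { toFun := fun b => ⟨b.1, b.1.2, ?_⟩
          invFun := fun b => ⟨⟨b.1, b.2.1⟩, ?_⟩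
          left_inv := fun b => rfl
          right_inv := fun b => rfl }
      · rintro _ ⟨m, rfl⟩
        rw [← dl_eq_zero, ← h.d_z hu (h.BL b.1.2)]
        have := b.2
        rw [MonoidHom.mem_ker] at this
        change u * ((b.1 : Γ) * u * (b.1 : Γ)⁻¹) = 1 at this
        rw [this, dl_eq_zero, ap_one]
      · rw [MonoidHom.mem_ker]
        change u * ((b : Γ) * u * (b : Γ)⁻¹) = 1
        refine h.ext fun v => ?_
        rw [ap_one, ← dl_eq_zero, h.d_z hu (h.BL b.2.1), dl_eq_zero]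
        exact b.2.2 _ ⟨v, rfl⟩
    rw [← h3, mul_comm, ← Subgroup.index_ker]
    exact Subgroup.card_mul_index _
  have h3 := card_comap (dl ρ u) (cv ρ B)
  rw [← hU, ← h1] at h3
  have h4 : Nat.card B * Nat.card (U ⊓ cv ρ B : Submodule (ZMod 2) M) ≤ Nat.card (cb ρ B U) * Nat.card U := by
    have p : 0 < Nat.card (cv ρ (h.ub u hu).range) := Nat.card_pos
    have p2 : 0 < Nat.card M := Nat.card_pos
    refine Nat.le_of_mul_le_mul_left ?_ p2
    calc Nat.card M * (Nat.card B * Nat.card (U ⊓ cv ρ B : Submodule (ZMod 2) M))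
        = Nat.card B * (Nat.card M * Nat.card (U ⊓ cv ρ B : Submodule (ZMod 2) M)) := by ring
      _ = Nat.card B * (Nat.card U * Nat.card (cv ρ (h.ub u hu).range)) := by rw [h3]
      _ = (Nat.card (h.ub u hu).range * Nat.card (cv ρ (h.ub u hu).range)) * Nat.card (cb ρ B U) * Nat.card U := by
          rw [← h2]; ring
      _ ≤ Nat.card M * Nat.card (cb ρ B U) * Nat.card U :=
          Nat.mul_le_mul_right _ (Nat.mul_le_mul_right _ hZ)
      _ = Nat.card M * (Nat.card (cb ρ B U) * Nat.card U) := by ring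
  rcases (h.U_le U).2 h4 with ⟨h5, h6⟩ | h5
  · refine ⟨fun b hb hbm => ?_, fun v => ?_⟩
    · have : b ∈ cb ρ B U := ⟨hb, by
        rintro _ ⟨m, rfl⟩
        exact dl_eq_zero.mp (hbm m)⟩
      rw [h5] at this
      exact mem_bot.mp this
    · have hv : v ∈ U ⊔ cv ρ B := by rw [h6]; trivial
      obtain ⟨_, ⟨m, rfl⟩, w, hw, e⟩ := Submodule.mem_sup.mp hv
      exact ⟨m, w, hw, e.symm⟩
  · exfalso
    obtain ⟨b, hb, m, hbm⟩ := hm
    rw [← h5] at hb
    exact hbm (dl_eq_zero.mpr (hb.2 _ ⟨m, rfl⟩))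

/-- if `Φ(u) = 0` then `u` commutes with `B` -/
theorem not_mv (h0 : ∀ v ∈ X, Φ u v = 0) : ¬ Mv ρ B u := by
  intro hm
  obtain ⟨-, h2⟩ := h.two hu hm
  obtain ⟨r, hrL, hrX, b, hb, v, hv, hne⟩ := h.mv
  have hr : r ∈ YY ρ L X := ⟨hrL, hrX⟩
  apply hne
  obtain ⟨m, w, hw, e⟩ := h2 v
  have hbL := h.BL hb
  have hdX : dl ρ u m ∈ X := h.dX hu m
  have e1 : ρ b v + v = ρ b (dl ρ u m) + dl ρ u m := by
    rw [e, map_add, hw b hb]
    linear_combination (norm := module) addself w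
  rw [e1, h.padd r hrL hrX _ (h.LX hbL hdX) _ hdX]
  have e2 : Φ r (ρ b (dl ρ u m)) = Φ (b⁻¹ * r * b⁻¹⁻¹) (dl ρ u m) := by
    rw [h.pconj hr (L.inv_mem hbL) hdX, inv_inv]
  rw [e2, h.pc hu (h.conj hr (L.inv_mem hbL)), h.pc hu hr, h0 _ (h.dX (h.conj hr (L.inv_mem hbL)) m),
    h0 _ (h.dX hr m), add_zero]

omit hu [Finite Γ] [Finite M] in
/-- a vector fixed by all conjugates of `B` under `L` is fixed by `L₁` -/
theorem fix_L1 {v : M} (hv : ∀ l ∈ L, ∀ b ∈ B, ρ (l * b * l⁻¹) v = v) {g : Γ} (hg : g ∈ L1 B L) : ρ g v = v := by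
  induction hg using closure_induction with
  | mem x hx =>
    obtain ⟨l, hl, b, hb, rfl⟩ := hx
    exact hv l hl b hb
  | one => exact ap_one ρ v
  | mul x y _ _ hx hy => rw [ap_mul, hy, hx]
  | inv x _ hx =>
    conv_lhs => rw [← hx]
    exact inv_ap ρ x v

/-- an `L`-invariant set of elements that commute with `B` commutes with `L₁` -/
theorem cent_of (hn : ∀ l ∈ L, ¬ Mv ρ B (l * u * l⁻¹)) {g : Γ} (hg : g ∈ L1 B L) (m : M) :
    ρ g (dl ρ u m) = dl ρ u m := by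
  refine h.fix_L1 (fun l hl b hb => ?_) hg
  have h1 := hn l⁻¹ (L.inv_mem hl)
  simp only [Mv, not_exists, not_and, not_not] at h1
  have h2 := h1 b hb m
  rw [h.d_conj hu (L.inv_mem hl), dl_eq_zero] at h2
  rw [ap_mul, ap_mul, h2, ap_inv]

omit hu in
/-- `[M, b] ≤ C_M(L₁)` implies `b = 1` -/
theorem eq_one {b : Γ} (hb : b ∈ B) (hf : ∀ g ∈ L1 B L, ∀ m, ρ g (dl ρ b m) = dl ρ b m) : b = 1 := by
  refine h.fX b hb ?_
  let R : Subgroup Γ :=
    { carrier := {x | x ∈ L1 B L ∧ ∀ g ∈ L1 B L, ∀ m, ρ g (dl ρ x m) = dl ρ x m}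
      one_mem' := ⟨one_mem _, fun g _ m => by
        have : dl ρ (1 : Γ) m = 0 := dl_eq_zero.mpr (ap_one ρ m)
        rw [this, map_zero]⟩
      mul_mem' := by
        rintro x y ⟨hx, hx1⟩ ⟨hy, hy1⟩
        have key : ∀ m, dl ρ (x * y) m = dl ρ x m + dl ρ y m := by
          intro m
          have e1 := hy1 x hx m
          rw [dl_apply, ap_mul, ap_eq ρ y m, map_add, e1, ap_eq ρ x m]
          linear_combination (norm := module) addself m
        refine ⟨mul_mem hx hy, fun g hg m => ?_⟩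
        rw [key, map_add, hx1 g hg, hy1 g hg]
      inv_mem' := by
        rintro x ⟨hx, hx1⟩
        have key : ∀ m, dl ρ x⁻¹ m = dl ρ x m := by
          intro m
          have e1 := hx1 x⁻¹ (inv_mem hx) m
          have e2 : ρ x⁻¹ (dl ρ x m) = dl ρ x⁻¹ m := by
            rw [dl_apply, dl_apply, map_add, inv_ap, add_comm]
          rw [← e2, e1]
        refine ⟨inv_mem hx, fun g hg m => ?_⟩
        rw [key, hx1 g hg] }
  have hR1 : R ≤ L1 B L := fun x hx => hx.1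
  have hR2 : ∀ g ∈ L1 B L, ∀ r ∈ R, g * r * g⁻¹ ∈ R := by
    rintro g hg r ⟨hr, hr1⟩
    refine ⟨mul_mem (mul_mem hg hr) (inv_mem hg), fun k hk m => ?_⟩
    have key : dl ρ (g * r * g⁻¹) m = ρ g (dl ρ r (ρ g⁻¹ m)) := by
      rw [dl_apply, dl_apply, ap_mul, ap_mul, map_add, ap_inv]
    rw [key, hr1 g hg, hr1 k hk]
  have hR3 : IsPGroup 2 R := by
    rintro ⟨x, hx, hx1⟩
    refine ⟨1, Subtype.ext ?_⟩
    change x ^ (2 ^ 1) = 1
    rw [pow_one, pow_two]
    refine h.ext fun v => ?_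
    have e1 := hx1 x hx v
    rw [ap_mul, ap_one, ap_eq ρ x v, map_add, e1, ap_eq ρ x v]
    linear_combination (norm := module) addself (dl ρ x v)
  exact h.rad R hR1 hR2 hR3 b ⟨B_le_L1 hb, hf⟩

/-- `[u, b]` is not centralised by `L₁` -/
theorem z_one (hm : Mv ρ B u) {b : Γ} (hb : b ∈ B)
    (hf : ∀ g ∈ L1 B L, ∀ m, ρ g (dl ρ (u * (b * u * b⁻¹)) m) = dl ρ (u * (b * u * b⁻¹)) m) : b = 1 := by
  obtain ⟨-, h2⟩ := h.two hu hm
  refine h.eq_one hb fun g hg v => ?_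
  obtain ⟨m, w, hw, rfl⟩ := h2 v
  have e : dl ρ b (dl ρ u m + w) = dl ρ (u * (b * u * b⁻¹)) m := by
    rw [h.d_z hu (h.BL hb), map_add, dl_eq_zero.mpr (hw b hb), add_zero]
  rw [e, hf g hg m]

/-- **(c')** : `Φ(u)` is not trivial on `[X, b]` -/
theorem sep (hm : Mv ρ B u) {b : Γ} (hb : b ∈ B) (hb1 : b ≠ 1) : ∃ v ∈ X, Φ u (dl ρ b v) ≠ 0 := by
  by_contra hcon
  push Not at hcon
  apply hb1
  have hbL := h.BL hb
  have hz := h.z_mem hu hbL
  have hz0 : ∀ v ∈ X, Φ (u * (b * u * b⁻¹)) v = 0 := by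
    intro v hv
    rw [h.pmul u hu.1 hu.2 _ (h.conj hu hbL).1 (h.conj hu hbL).2 v hv, h.pconj hu hbL hv, h.inv hb,
      ← h.padd u hu.1 hu.2 _ hv _ (h.LX hbL hv)]
    have := hcon v hv
    rwa [dl_apply, add_comm] at this
  refine h.z_one hu hm hb fun g hg m => h.cent_of hz (fun l hl => ?_) hg m
  refine h.not_mv (h.conj hz hl) fun v hv => ?_
  rw [h.pconj hz hl hv]
  exact hz0 _ (h.LX (L.inv_mem hl) hv)

end Fr

end Cfsg.Agent.Omega.FOne.ThmA

end

section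


/-!
# THEOREM A (helper297 #20655): the minimal `L`-submodule `Y₁` of `Y` moved by `B`
-/

set_option autoImplicit false
set_option linter.unusedSectionVars false

namespace Cfsg.Agent.Omega.FOne.ThmA

open Subgroup
open Cfsg.Agent.Omega.FOne.Tvw (z2 addself z2add eq_of_add_eq_zero')
open Cfsg.Agent.Omega.FOne.NOv.TrA (ap_mul ap_one inv_ap ap_inv)

universe u

variable {Γ : Type*} {M : Type u} [Group Γ] [AddCommGroup M] [Module (ZMod 2) M]

/-- a minimal `L`-invariant subgroup of `Y` moved by `B` -/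
structure Mn (ρ : Γ →* Module.End (ZMod 2) M) (B L : Subgroup Γ) (X : Submodule (ZMod 2) M) (Y1 : Subgroup Γ) :
    Prop where
  le : Y1 ≤ YY ρ L X
  inv : ∀ l ∈ L, ∀ u ∈ Y1, l * u * l⁻¹ ∈ Y1
  mv : ∃ u ∈ Y1, Mv ρ B u
  min : ∀ Y' ≤ Y1, (∀ l ∈ L, ∀ u ∈ Y', l * u * l⁻¹ ∈ Y') → (∃ u ∈ Y', Mv ρ B u) → Y' = Y1

/-- `u` is centralised by `L₁` -/
def Ce (ρ : Γ →* Module.End (ZMod 2) M) (B L : Subgroup Γ) (u : Γ) : Prop :=
  ∀ g ∈ L1 B L, ∀ m, ρ g (dl ρ u m) = dl ρ u m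

variable {ρ : Γ →* Module.End (ZMod 2) M} {B L N : Subgroup Γ} {X : Submodule (ZMod 2) M} {Φ : Γ → M → ZMod 2}

theorem Fr.exists_mn [Finite Γ] [Finite M] (h : Fr ρ B L N X Φ) : ∃ Y1, Mn ρ B L X Y1 := by
  have hne : {Y' : Subgroup Γ | Y' ≤ YY ρ L X ∧ (∀ l ∈ L, ∀ u ∈ Y', l * u * l⁻¹ ∈ Y') ∧
      ∃ u ∈ Y', Mv ρ B u}.Nonempty := by
    refine ⟨YY ρ L X, le_rfl, fun l hl u hu => h.conj hu hl, ?_⟩
    obtain ⟨u, hu1, hu2, b, hb, v, hv, hne⟩ := h.mv
    have hu : u ∈ YY ρ L X := ⟨hu1, hu2⟩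
    refine ⟨u, hu, ?_⟩
    by_contra hm
    simp only [Mv, not_exists, not_and, not_not] at hm
    have hbL := h.BL hb
    have h1 : u * (b * u * b⁻¹) = 1 := by
      refine h.ext fun m => ?_
      rw [ap_one, ← dl_eq_zero, h.d_z hu hbL]
      exact hm b hb m
    have h2 := h.pmul u hu.1 hu.2 _ (h.conj hu hbL).1 (h.conj hu hbL).2 v hv
    have h3 : Φ 1 v = 0 := by
      have := h.pmul 1 L.one_mem (fun v _ => ap_one ρ v) 1 L.one_mem (fun v _ => ap_one ρ v) v hv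
      rw [mul_one] at this
      rcases z2 (Φ 1 v) with a | a
      · exact a
      · rw [a] at this; exact absurd this (by decide)
    rw [h1, h3, h.pconj hu hbL hv, h.inv hb, ← h.padd u hu.1 hu.2 _ hv _ (h.LX hbL hv), add_comm] at h2
    exact hne h2.symm
  obtain ⟨Y1, hY1⟩ := (Set.toFinite {Y' : Subgroup Γ | Y' ≤ YY ρ L X ∧ (∀ l ∈ L, ∀ u ∈ Y', l * u * l⁻¹ ∈ Y') ∧
      ∃ u ∈ Y', Mv ρ B u}).exists_minimal hne
  obtain ⟨h1, h2, h3⟩ := hY1.prop
  exact ⟨Y1, h1, h2, h3, fun Y' hle hinv hmv =>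
    le_antisymm hle (hY1.le_of_le ⟨hle.trans h1, hinv, hmv⟩ hle)⟩

namespace Mn

variable [Finite Γ] [Finite M] (h : Fr ρ B L N X Φ) {Y1 : Subgroup Γ} (n : Mn ρ B L X Y1)
include h n

/-- proper `L`-invariant subgroups are centralised by `L₁` -/
theorem cent {Y' : Subgroup Γ} (hle : Y' ≤ Y1) (hinv : ∀ l ∈ L, ∀ u ∈ Y', l * u * l⁻¹ ∈ Y') (hne : Y' ≠ Y1)
    {u : Γ} (hu : u ∈ Y') : Ce ρ B L u := by
  intro g hg m
  refine h.cent_of (n.le (hle hu)) (fun l hl hm => hne ?_) hg m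
  exact n.min Y' hle hinv ⟨_, hinv l hl u hu, hm⟩

theorem z_mem {u b : Γ} (hu : u ∈ Y1) (hb : b ∈ L) : u * (b * u * b⁻¹) ∈ Y1 := mul_mem hu (n.inv b hb u hu)

/-- `Y₁ = [Y₁, L₁]` -/
theorem gen : closure {x | ∃ u ∈ Y1, ∃ g ∈ L1 B L, u * (g * u * g⁻¹) = x} = Y1 := by
  set Y2 := closure {x | ∃ u ∈ Y1, ∃ g ∈ L1 B L, u * (g * u * g⁻¹) = x} with hY2
  have hLB := L1_le h.BL
  have hle : Y2 ≤ Y1 := by
    rw [hY2, closure_le]
    rintro _ ⟨u, hu, g, hg, rfl⟩
    exact n.z_mem h hu (hLB hg)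
  by_contra hne
  have hinv : ∀ l ∈ L, ∀ u ∈ Y2, l * u * l⁻¹ ∈ Y2 := by
    intro l hl u hu
    induction hu using closure_induction with
    | mem x hx =>
      obtain ⟨u, hu, g, hg, rfl⟩ := hx
      refine subset_closure ⟨_, n.inv l hl u hu, _, L1_conj hl hg, ?_⟩
      group
    | one => rw [mul_one, mul_inv_cancel]; exact one_mem _
    | mul x y _ _ hx hy =>
      have : l * (x * y) * l⁻¹ = (l * x * l⁻¹) * (l * y * l⁻¹) := by group
      rw [this]; exact mul_mem hx hy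
    | inv x _ hx =>
      have : l * x⁻¹ * l⁻¹ = (l * x * l⁻¹)⁻¹ := by group
      rw [this]; exact inv_mem hx
  obtain ⟨u, hu, hm⟩ := n.mv
  obtain ⟨b, hb, m, hbm⟩ := hm
  have h1 : b = 1 := h.z_one (n.le hu) ⟨b, hb, m, hbm⟩ hb (n.cent h hle hinv hne
    (subset_closure ⟨u, hu, b, B_le_L1 hb, rfl⟩))
  apply hbm
  rw [h1]
  exact dl_eq_zero.mpr (ap_one ρ _)

/-- **(α)** `Φ(Y₁)` is trivial on the vectors fixed by `L₁` -/
theorem p_fix {r : Γ} (hr : r ∈ Y1) {c : M} (hc : c ∈ X) (hf : ∀ g ∈ L1 B L, ρ g c = c) : Φ r c = 0 := by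
  have hLB := L1_le h.BL
  have key : ∀ r ∈ closure {x | ∃ u ∈ Y1, ∃ g ∈ L1 B L, u * (g * u * g⁻¹) = x}, Φ r c = 0 := by
    intro r hr
    have hsub : closure {x | ∃ u ∈ Y1, ∃ g ∈ L1 B L, u * (g * u * g⁻¹) = x} ≤ Y1 := (n.gen h).le
    induction hr using closure_induction with
    | mem x hx =>
      obtain ⟨u, hu, g, hg, rfl⟩ := hx
      have hu' := n.le hu
      rw [h.pmul u hu'.1 hu'.2 _ (h.conj hu' (hLB hg)).1 (h.conj hu' (hLB hg)).2 c hc, h.pconj hu' (hLB hg) hc,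
        hf _ (inv_mem hg)]
      exact z2add _
    | one =>
      have := h.pmul 1 L.one_mem (fun v _ => ap_one ρ v) 1 L.one_mem (fun v _ => ap_one ρ v) c hc
      rw [mul_one] at this
      rcases z2 (Φ 1 c) with a | a
      · exact a
      · rw [a] at this; exact absurd this (by decide)
    | mul x y hx hy hx' hy' =>
      have h1 := n.le (hsub hx)
      have h2 := n.le (hsub hy)
      rw [h.pmul x h1.1 h1.2 y h2.1 h2.2 c hc, hx', hy', add_zero]
    | inv x hx hx' =>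
      rw [h.uinv (n.le (hsub hx))]; exact hx'
  rw [n.gen h] at key
  exact key r hr

/-- **(β)** -/
theorem le_L1 : Y1 ≤ L1 B L := by
  have hLB := L1_le h.BL
  rw [← n.gen h, closure_le]
  rintro _ ⟨u, hu, g, hg, rfl⟩
  have h1 : u * (g * u * g⁻¹) = (u * g * u⁻¹) * g⁻¹ := by rw [h.uinv (n.le hu)]; group
  rw [h1]
  exact mul_mem (L1_conj (n.le hu).1 hg) (inv_mem hg)

/-- some form `f_m` is not zero -/
theorem exists_m : ∃ m, ∃ u ∈ Y1, ∃ r ∈ Y1, Φ r (dl ρ u m) ≠ 0 := by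
  obtain ⟨u, hu, hm⟩ := n.mv
  have hm' := hm
  obtain ⟨b, hb, m1, hbm⟩ := hm
  have hb1 : b ≠ 1 := by
    rintro rfl
    exact hbm (dl_eq_zero.mpr (ap_one ρ _))
  obtain ⟨v, hv, hne⟩ := h.sep (n.le hu) hm' hb hb1
  obtain ⟨-, h2⟩ := h.two (n.le hu) hm'
  obtain ⟨m, w, hw, rfl⟩ := h2 v
  have e : dl ρ b (dl ρ u m + w) = dl ρ (u * (b * u * b⁻¹)) m := by
    rw [h.d_z (n.le hu) (h.BL hb), map_add, dl_eq_zero.mpr (hw b hb), add_zero]
  rw [e] at hne
  exact ⟨m, _, n.z_mem h hu (h.BL hb), u, hu, hne⟩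

/-- the radical of a non-zero form is centralised by `L₁` -/
theorem ce_of {m0 : M} (hm0 : ∃ u ∈ Y1, ∃ r ∈ Y1, Φ r (dl ρ u m0) ≠ 0) {u : Γ} (hu : u ∈ Y1)
    (h0 : ∀ r ∈ Y1, Φ r (dl ρ u m0) = 0) : Ce ρ B L u := by
  let C : Subgroup Γ :=
    { carrier := {u | u ∈ Y1 ∧ ∀ r ∈ Y1, Φ r (dl ρ u m0) = 0}
      one_mem' := ⟨Y1.one_mem, fun r hr => by
        have : dl ρ (1 : Γ) m0 = 0 := dl_eq_zero.mpr (ap_one ρ m0)
        rw [this]
        exact h.pzero (n.le hr)⟩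
      mul_mem' := by
        rintro x y ⟨hx, hx1⟩ ⟨hy, hy1⟩
        refine ⟨mul_mem hx hy, fun r hr => ?_⟩
        have hr' := n.le hr
        rw [h.d_mul (n.le hx) (n.le hy), h.padd r hr'.1 hr'.2 _ (h.dX (n.le hx) m0) _ (h.dX (n.le hy) m0), hx1 r hr,
          hy1 r hr, add_zero]
      inv_mem' := by
        rintro x ⟨hx, hx1⟩
        rw [Set.mem_setOf_eq, h.uinv (n.le hx)]
        exact ⟨hx, hx1⟩ }
  refine n.cent h (Y' := C) (fun x hx => hx.1) ?_ ?_ ⟨hu, h0⟩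
  · rintro l hl x ⟨hx, hx1⟩
    refine ⟨n.inv l hl x hx, fun r hr => ?_⟩
    rw [h.d_conj (n.le hx) hl, ← hx1 _ (n.inv l⁻¹ (L.inv_mem hl) r hr),
      h.pconj (n.le hr) (L.inv_mem hl) (h.dX (n.le hx) m0), inv_inv]
  · intro e
    obtain ⟨u, hu, r, hr, hne⟩ := hm0
    rw [← e] at hu
    exact hne (hu.2 r hr)

/-- `q(u) = 0` iff `u` is centralised by `L₁` iff `dl u m₀` is fixed by `L₁` -/
theorem ce_iff {m0 : M} (hm0 : ∃ u ∈ Y1, ∃ r ∈ Y1, Φ r (dl ρ u m0) ≠ 0) {u : Γ} (hu : u ∈ Y1) :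
    Ce ρ B L u ↔ ∀ g ∈ L1 B L, ρ g (dl ρ u m0) = dl ρ u m0 := by
  constructor
  · intro hc g hg
    exact hc g hg m0
  · intro hf
    exact n.ce_of h hm0 hu fun r hr => n.p_fix h hr (h.dX (n.le hu) m0) hf

/-- the form `f_m` is symmetric -/
theorem symm {u r : Γ} (hu : u ∈ Y1) (hr : r ∈ Y1) (m : M) : Φ r (dl ρ u m) = Φ u (dl ρ r m) :=
  h.pc (n.le hu) (n.le hr) m

theorem p_ce {u r : Γ} (hu : u ∈ Y1) (hr : r ∈ Y1) (hc : Ce ρ B L u) (m : M) : Φ r (dl ρ u m) = 0 :=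
  n.p_fix h hr (h.dX (n.le hu) m) fun g hg => hc g hg m

theorem p_ce' {u r : Γ} (hu : u ∈ Y1) (hr : r ∈ Y1) (hc : Ce ρ B L r) (m : M) : Φ r (dl ρ u m) = 0 := by
  rw [n.symm h hu hr]
  exact n.p_ce h hr hu hc m

end Mn

end Cfsg.Agent.Omega.FOne.ThmA

end

section


/-!
# THEOREM A (helper297 #20655): the quotient `V` of `Y₁`, its forms and its field
-/

set_option autoImplicit false
set_option linter.unusedSectionVars false

namespace Cfsg.Agent.Omega.FOne.ThmA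

open Subgroup
open Cfsg.Agent.Omega.FOne.Tvw (z2 addself z2add eq_of_add_eq_zero')
open Cfsg.Agent.Omega.FOne.NOv.TrA (ap_mul ap_one inv_ap ap_inv)

universe u

/-- a homomorphism on `Y₁` that is trivial on `ker q` gives a linear map on `V` -/
theorem exists_lift {Γ V A : Type*} [Group Γ] [AddCommGroup V] [Module (ZMod 2) V] [AddCommGroup A]
    [Module (ZMod 2) A] {Y1 : Subgroup Γ} {q : Γ → V} (qm : ∀ u ∈ Y1, ∀ u' ∈ Y1, q (u * u') = q u + q u')
    (qs : ∀ x, ∃ u ∈ Y1, q u = x) (F : Γ → A) (Fm : ∀ u ∈ Y1, ∀ u' ∈ Y1, F (u * u') = F u + F u')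
    (F0 : ∀ u ∈ Y1, q u = 0 → F u = 0) : ∃ f : V →ₗ[ZMod 2] A, ∀ u ∈ Y1, f (q u) = F u := by
  have wd : ∀ u ∈ Y1, ∀ u' ∈ Y1, q u = q u' → F u = F u' := by
    intro u hu u' hu' e
    have h1 : F (u * u') = 0 := F0 _ (mul_mem hu hu') (by rw [qm u hu u' hu', e]; exact addself _)
    rw [Fm u hu u' hu'] at h1
    exact eq_of_add_eq_zero' h1
  choose g hg hq using qs
  refine ⟨{ toFun := fun x => F (g x), map_add' := fun x y => ?_, map_smul' := fun c x => ?_ }, fun u hu => ?_⟩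
  · rw [← Fm _ (hg x) _ (hg y)]
    exact wd _ (hg _) _ (mul_mem (hg x) (hg y)) (by rw [hq, qm _ (hg x) _ (hg y), hq, hq])
  · rcases z2 c with rfl | rfl
    · rw [RingHom.id_apply, zero_smul, zero_smul]
      exact F0 _ (hg 0) (hq 0)
    · rw [RingHom.id_apply, one_smul, one_smul]
  · exact wd _ (hg _) _ hu (hq _)

variable {Γ : Type*} {M : Type u} [Group Γ] [AddCommGroup M] [Module (ZMod 2) M]

/-- the quotient `V` of `Y₁` -/
structure Qt (ρ : Γ →* Module.End (ZMod 2) M) (B L : Subgroup Γ) (X : Submodule (ZMod 2) M) (Φ : Γ → M → ZMod 2)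
    (Y1 : Subgroup Γ) (m0 : M) {V : Type u} [AddCommGroup V] [Module (ZMod 2) V] (q : Γ → V) : Prop where
  mn : Mn ρ B L X Y1
  ne : ∃ u ∈ Y1, ∃ r ∈ Y1, Φ r (dl ρ u m0) ≠ 0
  mul : ∀ u ∈ Y1, ∀ u' ∈ Y1, q (u * u') = q u + q u'
  sur : ∀ x, ∃ u ∈ Y1, q u = x
  zero : ∀ u ∈ Y1, q u = 0 ↔ Ce ρ B L u

variable {ρ : Γ →* Module.End (ZMod 2) M} {B L N : Subgroup Γ} {X : Submodule (ZMod 2) M} {Φ : Γ → M → ZMod 2}

/-- `S = [m₀, Y₁]` -/
def Sm [Finite Γ] [Finite M] (h : Fr ρ B L N X Φ) {Y1 : Subgroup Γ} (n : Mn ρ B L X Y1) (m0 : M) :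
    Submodule (ZMod 2) M where
  carrier := {v | ∃ u ∈ Y1, dl ρ u m0 = v}
  zero_mem' := ⟨1, Y1.one_mem, dl_eq_zero.mpr (ap_one ρ m0)⟩
  add_mem' := by
    rintro _ _ ⟨u, hu, rfl⟩ ⟨u', hu', rfl⟩
    exact ⟨u * u', mul_mem hu hu', h.d_mul (n.le hu) (n.le hu') m0⟩
  smul_mem' := by
    rintro c _ ⟨u, hu, rfl⟩
    rcases z2 c with rfl | rfl
    · exact ⟨1, Y1.one_mem, by rw [zero_smul]; exact dl_eq_zero.mpr (ap_one ρ m0)⟩
    · exact ⟨u, hu, by rw [one_smul]⟩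

section

variable [Finite Γ] [Finite M] (h : Fr ρ B L N X Φ) {Y1 : Subgroup Γ} (n : Mn ρ B L X Y1) {m0 : M}

theorem mem_Sm {v : M} : v ∈ Sm h n m0 ↔ ∃ u ∈ Y1, dl ρ u m0 = v := Iff.rfl

theorem Sm_le : Sm h n m0 ≤ X := by
  rintro _ ⟨u, hu, rfl⟩
  exact h.dX (n.le hu) m0

theorem Sm_inv {l : Γ} (hl : l ∈ L) {v : M} (hv : v ∈ Sm h n m0) : ρ l v ∈ Sm h n m0 := by
  obtain ⟨u, hu, rfl⟩ := hv
  exact ⟨_, n.inv l hl u hu, h.d_conj (n.le hu) hl m0⟩

/-- **the quotient** -/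
theorem exists_qt (hm0 : ∃ u ∈ Y1, ∃ r ∈ Y1, Φ r (dl ρ u m0) ≠ 0) :
    ∃ (V : Type u) (_ : AddCommGroup V) (_ : Module (ZMod 2) V) (_ : Finite V) (q : Γ → V)
      (p : Sm h n m0 →ₗ[ZMod 2] V), Qt ρ B L X Φ Y1 m0 q ∧ Function.Surjective p ∧
      ∀ u (hu : u ∈ Y1), q u = p ⟨dl ρ u m0, u, hu, rfl⟩ := by
  classical
  let Z : Submodule (ZMod 2) (Sm h n m0) :=
    { carrier := {v | ∀ g ∈ L1 B L, ρ g v = v}
      zero_mem' := fun g _ => map_zero _
      add_mem' := fun {v w} hv hw g hg => by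
        rw [Submodule.coe_add, map_add, hv g hg, hw g hg]
      smul_mem' := fun c v hv g hg => by
        rw [Submodule.coe_smul, map_smul, hv g hg] }
  let q : Γ → (Sm h n m0 ⧸ Z) := fun u => if hu : u ∈ Y1 then Z.mkQ ⟨dl ρ u m0, u, hu, rfl⟩ else 0
  have hq : ∀ u (hu : u ∈ Y1), q u = Z.mkQ ⟨dl ρ u m0, u, hu, rfl⟩ := fun u hu => dif_pos hu
  refine ⟨Sm h n m0 ⧸ Z, inferInstance, inferInstance, Finite.of_surjective _ Z.mkQ_surjective, q, Z.mkQ, ?_,
    Z.mkQ_surjective, hq⟩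
  refine ⟨n, hm0, fun u hu u' hu' => ?_, fun x => ?_, fun u hu => ?_⟩
  · rw [hq _ (mul_mem hu hu'), hq u hu, hq u' hu', ← map_add]
    congr 1
    exact Subtype.ext (h.d_mul (n.le hu) (n.le hu') m0)
  · obtain ⟨⟨v, u, hu, rfl⟩, rfl⟩ := Z.mkQ_surjective x
    exact ⟨u, hu, hq u hu⟩
  · rw [hq u hu, Submodule.mkQ_apply, Submodule.Quotient.mk_eq_zero, n.ce_iff h hm0 hu]
    rfl

end

namespace Qt

variable [Finite Γ] [Finite M] (h : Fr ρ B L N X Φ) {Y1 : Subgroup Γ} {m0 : M} {V : Type u} [AddCommGroup V]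
  [Module (ZMod 2) V] {q : Γ → V} (Q : Qt ρ B L X Φ Y1 m0 q)
include h Q

/-- the form `f_m` -/
theorem exists_form (m : M) : ∃ f : V →ₗ[ZMod 2] Module.Dual (ZMod 2) V,
    ∀ u ∈ Y1, ∀ r ∈ Y1, f (q u) (q r) = Φ r (dl ρ u m) := by
  classical
  have n := Q.mn
  have h1 : ∀ u ∈ Y1, ∃ g : Module.Dual (ZMod 2) V, ∀ r ∈ Y1, g (q r) = Φ r (dl ρ u m) := by
    intro u hu
    refine exists_lift Q.mul Q.sur (fun r => Φ r (dl ρ u m)) (fun r hr r' hr' => ?_) fun r hr h0 => ?_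
    · have a := n.le hr
      have b := n.le hr'
      exact h.pmul r a.1 a.2 r' b.1 b.2 _ (h.dX (n.le hu) m)
    · exact n.p_ce' h hu hr ((Q.zero r hr).mp h0) m
  choose! g hg using h1
  refine exists_lift Q.mul Q.sur g (fun u hu u' hu' => ?_) (fun u hu h0 => ?_) |>.imp fun f hf u hu r hr => ?_
  · ext x
    obtain ⟨r, hr, rfl⟩ := Q.sur x
    have hr' := n.le hr
    rw [LinearMap.add_apply, hg _ (mul_mem hu hu') r hr, hg u hu r hr, hg u' hu' r hr,
      h.d_mul (n.le hu) (n.le hu'), h.padd r hr'.1 hr'.2 _ (h.dX (n.le hu) m) _ (h.dX (n.le hu') m)]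
  · ext x
    obtain ⟨r, hr, rfl⟩ := Q.sur x
    rw [hg u hu r hr, LinearMap.zero_apply]
    exact n.p_ce h hu hr ((Q.zero u hu).mp h0) m
  · rw [hf u hu, hg u hu r hr]

omit [Finite Γ] [Finite M] in
theorem ce_conj {u l : Γ} (hu : u ∈ Y1) (hl : l ∈ L) (hc : Ce ρ B L u) : Ce ρ B L (l * u * l⁻¹) := by
  intro g hg m
  have n := Q.mn
  have h1 : l⁻¹ * g * l ∈ L1 B L := by
    have := L1_conj (B := B) (L := L) (L.inv_mem hl) hg
    rwa [inv_inv] at this
  rw [h.d_conj (n.le hu) hl]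
  have h2 := hc _ h1 m
  rw [ap_mul, ap_mul] at h2
  have h3 := congrArg (ρ l) h2
  rwa [ap_inv] at h3

theorem exists_s {l : Γ} (hl : l ∈ L) : ∃ s : V →ₗ[ZMod 2] V, ∀ u ∈ Y1, s (q u) = q (l * u * l⁻¹) := by
  have n := Q.mn
  refine exists_lift Q.mul Q.sur (fun u => q (l * u * l⁻¹)) (fun u hu u' hu' => ?_) fun u hu h0 => ?_
  · have e : l * (u * u') * l⁻¹ = (l * u * l⁻¹) * (l * u' * l⁻¹) := by group
    rw [e, Q.mul _ (n.inv l hl u hu) _ (n.inv l hl u' hu')]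
  · rw [Q.zero _ (n.inv l hl u hu)]
    exact Q.ce_conj h hu hl ((Q.zero u hu).mp h0)

omit h in
theorem q_one : q 1 = 0 := by
  have h1 := Q.mul 1 Y1.one_mem 1 Y1.one_mem
  rw [mul_one] at h1
  exact left_eq_add.mp h1

theorem q_inv {u : Γ} (hu : u ∈ Y1) : q u⁻¹ = q u := by rw [h.uinv (Q.mn.le hu)]

/-- an element moved by `B` is not in the kernel, nor are its commutators -/
theorem q_z {u b : Γ} (hu : u ∈ Y1) (hm : Mv ρ B u) (hb : b ∈ B) (hz : q (u * (b * u * b⁻¹)) = 0) : b = 1 :=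
  h.z_one (Q.mn.le hu) hm hb ((Q.zero _ (Q.mn.z_mem h hu (h.BL hb))).mp hz)

theorem exists_mv : ∃ u ∈ Y1, Mv ρ B u ∧ q u ≠ 0 := by
  obtain ⟨u, hu, hm⟩ := Q.mn.mv
  refine ⟨u, hu, hm, fun h0 => ?_⟩
  obtain ⟨b, hb, m, hbm⟩ := hm
  apply hbm
  rw [dl_eq_zero]
  exact (Q.zero u hu).mp h0 b (B_le_L1 hb) m

/-- irreducibility -/
theorem irr (W : AddSubgroup V) (hW : ∀ l ∈ L, ∀ u ∈ Y1, q u ∈ W → q (l * u * l⁻¹) ∈ W) : W = ⊥ ∨ W = ⊤ := by
  have n := Q.mn
  let Y' : Subgroup Γ :=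
    { carrier := {u | u ∈ Y1 ∧ q u ∈ W}
      one_mem' := ⟨Y1.one_mem, by rw [Q.q_one]; exact W.zero_mem⟩
      mul_mem' := fun {a b} ha hb => ⟨mul_mem ha.1 hb.1, by rw [Q.mul a ha.1 b hb.1]; exact W.add_mem ha.2 hb.2⟩
      inv_mem' := fun {a} ha => ⟨inv_mem ha.1, by rw [Q.q_inv h ha.1]; exact ha.2⟩ }
  by_cases hY : Y' = Y1
  · right
    rw [eq_top_iff]
    intro x _
    obtain ⟨u, hu, rfl⟩ := Q.sur x
    rw [← hY] at hu
    exact hu.2
  · left
    rw [eq_bot_iff]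
    intro x hx
    obtain ⟨u, hu, rfl⟩ := Q.sur x
    rw [AddSubgroup.mem_bot, Q.zero u hu]
    exact n.cent h (Y' := Y') (fun u hu => hu.1) (fun l hl u hu => ⟨n.inv l hl u hu.1, hW l hl u hu.1 hu.2⟩) hY ⟨hu, hx⟩

end Qt

/-- the field `K` of the irreducible `L`-module `V` -/
structure Fd (ρ : Γ →* Module.End (ZMod 2) M) (B L : Subgroup Γ) (X : Submodule (ZMod 2) M) (Φ : Γ → M → ZMod 2)
    (Y1 : Subgroup Γ) (m0 : M) {V : Type u} [AddCommGroup V] [Module (ZMod 2) V] (q : Γ → V) {K : Type u} [Field K]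
    [Module K V] (f : V →ₗ[ZMod 2] Module.Dual (ZMod 2) V) (s : Γ → V →ₗ[ZMod 2] V) (t : M →+ K) : Prop
    extends Qt ρ B L X Φ Y1 m0 q where
  fq : ∀ u ∈ Y1, ∀ r ∈ Y1, f (q u) (q r) = Φ r (dl ρ u m0)
  sl : ∀ l ∈ L, ∀ u ∈ Y1, s l (q u) = q (l * u * l⁻¹)
  sk : ∀ l ∈ L, ∀ (k : K) (x : V), s l (k • x) = k • s l x
  t0 : t m0 = 1
  tq : ∀ m, ∀ u ∈ Y1, ∀ r ∈ Y1, f (t m • q u) (q r) = Φ r (dl ρ u m)

theorem Qt.exists_fd [Finite Γ] [Finite M] (h : Fr ρ B L N X Φ) {Y1 : Subgroup Γ} {m0 : M} {V : Type u}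
    [AddCommGroup V] [Module (ZMod 2) V] [Finite V] {q : Γ → V} (Q : Qt ρ B L X Φ Y1 m0 q) :
    ∃ (K : Type u) (_ : Field K) (_ : Finite K) (_ : Module K V) (f : V →ₗ[ZMod 2] Module.Dual (ZMod 2) V)
      (s : Γ → V →ₗ[ZMod 2] V) (t : M →+ K), Fd ρ B L X Φ Y1 m0 q f s t := by
  classical
  have n := Q.mn
  obtain ⟨f, hf⟩ := Q.exists_form h m0
  have hs : ∀ l, ∃ s : V →ₗ[ZMod 2] V, l ∈ L → ∀ u ∈ Y1, s (q u) = q (l * u * l⁻¹) := by
    intro l
    by_cases hl : l ∈ L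
    · obtain ⟨s, hs⟩ := Q.exists_s h hl
      exact ⟨s, fun _ => hs⟩
    · exact ⟨0, fun h => absurd h hl⟩
  choose s hs using hs
  have hnt : Nontrivial V := by
    obtain ⟨u, hu, -, hq⟩ := Q.exists_mv h
    exact ⟨⟨q u, 0, hq⟩⟩
  obtain ⟨K, iK, iF, iM, c1, c2, -⟩ := NO1.Comp.exists_field (V := V)
    {g : AddMonoid.End V | ∃ l ∈ L, ∀ x, g x = s l x} (by
      intro W hW
      refine Q.irr h W fun l hl u hu hq => ?_
      rw [← hs l hl u hu]
      exact hW (s l).toAddMonoidHom ⟨l, hl, fun x => rfl⟩ _ hq)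
  have c1' : ∀ l ∈ L, ∀ (k : K) (x : V), s l (k • x) = k • s l x := by
    intro l hl k x
    exact c1 (s l).toAddMonoidHom ⟨l, hl, fun x => rfl⟩ k x
  -- the form is non-degenerate
  have finj : Function.Injective f := by
    rw [injective_iff_map_eq_zero]
    intro x hx
    obtain ⟨u, hu, rfl⟩ := Q.sur x
    rw [Q.zero u hu]
    refine n.ce_of h Q.ne hu fun r hr => ?_
    rw [← hf u hu r hr, hx]; rfl
  have fsur : Function.Surjective f :=
    (LinearMap.injective_iff_surjective_of_finrank_eq_finrank Subspace.dual_finrank_eq.symm).mp finj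
  have hT : ∀ m, ∃ k : K, ∀ u ∈ Y1, ∀ r ∈ Y1, f (k • q u) (q r) = Φ r (dl ρ u m) := by
    intro m
    obtain ⟨g, hg⟩ := Q.exists_form h m
    choose T hT using fun x => fsur (g x)
    have Tadd : ∀ x y, T (x + y) = T x + T y := fun x y => finj (by rw [map_add, hT, hT, hT, map_add])
    obtain ⟨k, hk⟩ := c2 ⟨⟨T, finj (by rw [hT, map_zero, map_zero])⟩, Tadd⟩ (by
      rintro σ ⟨l, hl, hσ⟩ x
      change T (σ x) = σ (T x)
      rw [hσ, hσ]
      apply finj
      rw [hT]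
      obtain ⟨u, hu, rfl⟩ := Q.sur x
      obtain ⟨u', hu', e⟩ := Q.sur (T (q u))
      ext y
      obtain ⟨r, hr, rfl⟩ := Q.sur y
      have r1 := n.inv _ (L.inv_mem hl) r hr
      have hr2 : r = l * (l⁻¹ * r * l⁻¹⁻¹) * l⁻¹ := by group
      have e1 : g (q u) (q (l⁻¹ * r * l⁻¹⁻¹)) = f (T (q u)) (q (l⁻¹ * r * l⁻¹⁻¹)) := by rw [hT]
      rw [hg u hu _ r1, ← e, hf u' hu' _ r1] at e1
      rw [← e, hs l hl u hu, hs l hl u' hu', hg _ (n.inv l hl u hu) r hr, hf _ (n.inv l hl u' hu') r hr,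
        h.d_conj (n.le hu) hl, h.d_conj (n.le hu') hl, hr2,
        h.pinv _ (n.le r1).1 (n.le r1).2 l hl _ (h.dX (n.le hu) m),
        h.pinv _ (n.le r1).1 (n.le r1).2 l hl _ (h.dX (n.le hu') m0)]
      exact e1)
    have hk' : ∀ x, T x = k • x := hk
    refine ⟨k, fun u hu r hr => ?_⟩
    rw [← hg u hu r hr, ← hk', hT]
  choose t ht using hT
  have huniq : ∀ k k' : K, (∀ u ∈ Y1, ∀ r ∈ Y1, f (k • q u) (q r) = f (k' • q u) (q r)) → k = k' := by
    intro k k' e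
    obtain ⟨u, hu, -, hq⟩ := Q.exists_mv h
    have h1 : k • q u = k' • q u := by
      apply finj
      ext y
      obtain ⟨r, hr, rfl⟩ := Q.sur y
      exact e u hu r hr
    have h2 : (k - k') • q u = 0 := by rw [sub_smul, h1, sub_self]
    rcases smul_eq_zero.mp h2 with h3 | h3
    · exact sub_eq_zero.mp h3
    · exact absurd h3 hq
  refine ⟨K, iK, iF, iM, f, s, ⟨⟨t, ?_⟩, ?_⟩, ⟨Q, hf, hs, c1', ?_, ht⟩⟩
  · refine huniq _ _ fun u hu r hr => ?_
    rw [ht 0 u hu r hr, map_zero, zero_smul, map_zero, LinearMap.zero_apply]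
    exact h.pzero (n.le hr)
  · intro m m'
    refine huniq _ _ fun u hu r hr => ?_
    have hr' := n.le hr
    change f (t (m + m') • q u) (q r) = f ((t m + t m') • q u) (q r)
    rw [ht _ u hu r hr, add_smul, map_add f, LinearMap.add_apply, ht m u hu r hr, ht m' u hu r hr, map_add,
      h.padd r hr'.1 hr'.2 _ (h.dX (n.le hu) m) _ (h.dX (n.le hu) m')]
  · refine huniq _ _ fun u hu r hr => ?_
    change f (t m0 • q u) (q r) = f ((1 : K) • q u) (q r)
    rw [ht m0 u hu r hr, one_smul, hf u hu r hr]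

end Cfsg.Agent.Omega.FOne.ThmA

end

section


/-!
# THEOREM A (helper297 #20655): counting: `|K| = |B|`, `M = S + C_M(B)`, `B` is a full root group on `V`
-/

set_option autoImplicit false
set_option linter.unusedSectionVars false

namespace Cfsg.Agent.Omega.FOne.ThmA

open Subgroup
open Cfsg.Agent.Omega.FOne.Tvw (z2 addself z2add eq_of_add_eq_zero')
open Cfsg.Agent.Omega.FOne.NOv.TrA (ap_mul ap_one inv_ap ap_inv)

universe u

theorem card_dual {E : Type*} [AddCommGroup E] [Module (ZMod 2) E] [Finite E] :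
    Nat.card (Module.Dual (ZMod 2) E) = Nat.card E := by
  rw [Module.natCard_eq_pow_finrank (K := ZMod 2) (V := Module.Dual (ZMod 2) E),
    Module.natCard_eq_pow_finrank (K := ZMod 2) (V := E), Subspace.dual_finrank_eq]

theorem card_comap_sur {S V : Type*} [AddCommGroup S] [Module (ZMod 2) S] [Finite S] [AddCommGroup V]
    [Module (ZMod 2) V] [Finite V] (p : S →ₗ[ZMod 2] V) (ps : Function.Surjective p) (W : Submodule (ZMod 2) V) :
    Nat.card (W.comap p) = Nat.card W * Nat.card (LinearMap.ker p) := by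
  let g : W.comap p →ₗ[ZMod 2] V := p.comp (W.comap p).subtype
  have h2 := LinearMap.finrank_range_add_finrank_ker g
  have h3 : LinearMap.range g = W := by
    ext x
    constructor
    · rintro ⟨⟨v, hv⟩, rfl⟩
      exact hv
    · intro hx
      obtain ⟨v, rfl⟩ := ps x
      exact ⟨⟨v, hx⟩, rfl⟩
  have h4 : Module.finrank (ZMod 2) (LinearMap.ker g) = Module.finrank (ZMod 2) (LinearMap.ker p) := by
    refine LinearEquiv.finrank_eq (LinearEquiv.ofBijective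
      ({ toFun := fun x => ⟨x.1.1, x.2⟩
         map_add' := fun _ _ => rfl
         map_smul' := fun _ _ => rfl } : LinearMap.ker g →ₗ[ZMod 2] LinearMap.ker p) ⟨?_, ?_⟩)
    · intro a b hab
      have h5 := congrArg (fun t : LinearMap.ker p => (t : S)) hab
      exact Subtype.ext (Subtype.ext h5)
    · rintro ⟨v, hv⟩
      refine ⟨⟨⟨v, ?_⟩, hv⟩, rfl⟩
      rw [Submodule.mem_comap, LinearMap.mem_ker.mp hv]
      exact W.zero_mem
  rw [h3, h4] at h2
  rw [Module.natCard_eq_pow_finrank (K := ZMod 2) (V := W.comap p),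
    Module.natCard_eq_pow_finrank (K := ZMod 2) (V := W),
    Module.natCard_eq_pow_finrank (K := ZMod 2) (V := LinearMap.ker p), ← pow_add, h2]

theorem card_sur {S V : Type*} [AddCommGroup S] [Module (ZMod 2) S] [Finite S] [AddCommGroup V]
    [Module (ZMod 2) V] [Finite V] (p : S →ₗ[ZMod 2] V) (ps : Function.Surjective p) :
    Nat.card S = Nat.card V * Nat.card (LinearMap.ker p) := by
  have h1 := card_comap_sur p ps ⊤
  rwa [Submodule.comap_top, Nat.card_congr (Equiv.subtypeUnivEquiv (p := (· ∈ (⊤ : Submodule (ZMod 2) S)))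
    fun _ => trivial), Nat.card_congr (Equiv.subtypeUnivEquiv (p := (· ∈ (⊤ : Submodule (ZMod 2) V)))
    fun _ => trivial)] at h1

theorem card_lt {K V : Type*} [Field K] [Finite K] [AddCommGroup V] [Module K V] [Finite V] {W : Submodule K V}
    (hW : W ≠ ⊤) : Nat.card K * Nat.card W ≤ Nat.card V := by
  have h1 : Module.finrank K W < Module.finrank K V := Submodule.finrank_lt hW
  rw [Module.natCard_eq_pow_finrank (K := K) (V := W), Module.natCard_eq_pow_finrank (K := K) (V := V), ← pow_succ']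
  exact Nat.pow_le_pow_right Nat.card_pos h1

variable {Γ : Type*} {M : Type u} [Group Γ] [AddCommGroup M] [Module (ZMod 2) M]
variable {ρ : Γ →* Module.End (ZMod 2) M} {B L N : Subgroup Γ} {X : Submodule (ZMod 2) M} {Φ : Γ → M → ZMod 2}

namespace Fd

variable [Finite Γ] [Finite M] (h : Fr ρ B L N X Φ) {Y1 : Subgroup Γ} {m0 : M} {V : Type u} [AddCommGroup V]
  [Module (ZMod 2) V] [Finite V] {q : Γ → V} {K : Type u} [Field K] [Finite K] [Module K V]
  {f : V →ₗ[ZMod 2] Module.Dual (ZMod 2) V} {s : Γ → V →ₗ[ZMod 2] V} {t : M →+ K}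
  (D : Fd ρ B L X Φ Y1 m0 q f s t)
include h D

theorem fz {x : V} (hx : ∀ y, f x y = 0) : x = 0 := by
  obtain ⟨u, hu, rfl⟩ := D.sur x
  rw [D.zero u hu]
  exact D.mn.ce_of h D.ne hu fun r hr => by rw [← D.fq u hu r hr, hx]

theorem feq {x x' : V} (hx : ∀ y, f x y = f x' y) : x = x' := by
  rw [← sub_eq_zero]
  refine D.fz h fun y => ?_
  rw [map_sub, LinearMap.sub_apply, hx, sub_self]

theorem fsymm (x y : V) : f x y = f y x := by
  obtain ⟨u, hu, rfl⟩ := D.sur x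
  obtain ⟨r, hr, rfl⟩ := D.sur y
  rw [D.fq u hu r hr, D.fq r hr u hu, D.mn.symm h hu hr]

omit h in
theorem s_mul {l l' : Γ} (hl : l ∈ L) (hl' : l' ∈ L) (x : V) : s (l * l') x = s l (s l' x) := by
  obtain ⟨u, hu, rfl⟩ := D.sur x
  rw [D.sl _ (L.mul_mem hl hl') u hu, D.sl l' hl' u hu, D.sl l hl _ (D.mn.inv l' hl' u hu)]
  congr 1; group

omit h in
theorem s_one (x : V) : s 1 x = x := by
  obtain ⟨u, hu, rfl⟩ := D.sur x
  rw [D.sl _ L.one_mem u hu]
  congr 1; group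

omit h in
theorem s_inv {l : Γ} (hl : l ∈ L) (x : V) : s l⁻¹ (s l x) = x := by
  rw [← D.s_mul (L.inv_mem hl) hl, inv_mul_cancel, D.s_one]

omit h in
theorem s_inv' {l : Γ} (hl : l ∈ L) (x : V) : s l (s l⁻¹ x) = x := by
  rw [← D.s_mul hl (L.inv_mem hl), mul_inv_cancel, D.s_one]

theorem fs {l : Γ} (hl : l ∈ L) (x y : V) : f (s l x) (s l y) = f x y := by
  have n := D.mn
  obtain ⟨u, hu, rfl⟩ := D.sur x
  obtain ⟨r, hr, rfl⟩ := D.sur y
  rw [D.sl l hl u hu, D.sl l hl r hr, D.fq _ (n.inv l hl u hu) _ (n.inv l hl r hr), D.fq u hu r hr,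
    h.d_conj (n.le hu) hl, h.pinv r (n.le hr).1 (n.le hr).2 l hl _ (h.dX (n.le hu) m0)]

theorem fs' {l : Γ} (hl : l ∈ L) (x y : V) : f (s l x) y = f x (s l⁻¹ y) := by
  rw [← D.fs h (L.inv_mem hl) (s l x) y, D.s_inv hl]

theorem ftk (m : M) (x y : V) : f (t m • x) y = f x (t m • y) := by
  obtain ⟨u, hu, rfl⟩ := D.sur x
  obtain ⟨r, hr, rfl⟩ := D.sur y
  rw [D.tq m u hu r hr, D.fsymm h, D.tq m r hr u hu, D.mn.symm h hu hr]

/-- `s b x + x` for `x = q(u)` -/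
theorem q_z {u b : Γ} (hu : u ∈ Y1) (hb : b ∈ L) : q (u * (b * u * b⁻¹)) = s b (q u) + q u := by
  rw [D.mul u hu _ (D.mn.inv b hb u hu), D.sl b hb u hu, add_comm]

theorem sym_b {b : Γ} (hb : b ∈ B) (x y : V) : f (s b x + x) y = f x (s b y + y) := by
  rw [map_add, LinearMap.add_apply, map_add, D.fs' h (h.BL hb), h.inv hb]

theorem q_conj {u l : Γ} (hu : u ∈ Y1) (hl : l ∈ L) (hf : ρ l (dl ρ u m0) = dl ρ u m0) : s l (q u) = q u := by
  have n := D.mn
  refine D.feq h fun y => ?_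
  obtain ⟨r, hr, rfl⟩ := D.sur y
  rw [D.sl l hl u hu, D.fq _ (n.inv l hl u hu) r hr, D.fq u hu r hr, h.d_conj (n.le hu) hl, hf]

theorem quadr {b b' : Γ} (hb : b ∈ B) (hb' : b' ∈ B) (x : V) : s b' (s b x + x) = s b x + x := by
  obtain ⟨u, hu, rfl⟩ := D.sur x
  have n := D.mn
  rw [← D.q_z h hu (h.BL hb)]
  refine D.q_conj h (n.z_mem h hu (h.BL hb)) (h.BL hb') ?_
  rw [h.d_z (n.le hu) (h.BL hb)]
  exact dl_eq_zero.mp (h.dq hb hb' _)

/-- `B` is faithful on `V` -/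
theorem faith {b : Γ} (hb : b ∈ B) (hf : ∀ x, s b x = x) : b = 1 := by
  obtain ⟨u, hu, hm, -⟩ := D.toQt.exists_mv h
  refine D.toQt.q_z h hu hm hb ?_
  rw [D.q_z h hu (h.BL hb), hf]
  exact addself _

/-- the decomposition -/
theorem dec {u0 : Γ} (hu0 : u0 ∈ Y1) (hm : Mv ρ B u0) (x : V) :
    ∃ m, ∀ b ∈ B, s b x + x = t m • (s b (q u0) + q u0) := by
  have n := D.mn
  obtain ⟨r, hr, rfl⟩ := D.sur x
  obtain ⟨-, h2⟩ := h.two (n.le hu0) hm
  obtain ⟨m, w, hw, e⟩ := h2 (dl ρ r m0)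
  refine ⟨m, fun b hb => ?_⟩
  have hbL := h.BL hb
  refine D.feq h fun y => ?_
  obtain ⟨r', hr', rfl⟩ := D.sur y
  rw [← D.q_z h hr hbL, ← D.q_z h hu0 hbL, D.fq _ (n.z_mem h hr hbL) r' hr',
    D.tq m _ (n.z_mem h hu0 hbL) r' hr', h.d_z (n.le hr) hbL, h.d_z (n.le hu0) hbL, e, map_add,
    dl_eq_zero.mpr (hw b hb), add_zero]

/-- `K` has characteristic 2 -/
theorem char2 (k : K) : k + k = 0 := by
  obtain ⟨u, hu, -, hq⟩ := D.toQt.exists_mv h
  have h1 : (k + k) • q u = 0 := by rw [add_smul]; exact addself _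
  rcases smul_eq_zero.mp h1 with h2 | h2
  · exact h2
  · exact absurd h2 hq

/-- the fixed points of `B` on `V` -/
def WB : Submodule K V where
  carrier := {x | ∀ b ∈ B, s b x = x}
  zero_mem' := fun b _ => map_zero _
  add_mem' := fun hx hy b hb => by rw [map_add, hx b hb, hy b hb]
  smul_mem' := fun k x hx b hb => by rw [D.sk b (h.BL hb), hx b hb]

theorem mem_WB {x : V} : x ∈ D.WB h ↔ ∀ b ∈ B, s b x = x := Iff.rfl

theorem e0_notMem {u0 : Γ} (hu0 : u0 ∈ Y1) (hm : Mv ρ B u0) : q u0 ∉ D.WB h := by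
  intro hW
  obtain ⟨b, hb, m, hbm⟩ := id hm
  have : b = 1 := by
    refine D.toQt.q_z h hu0 hm hb ?_
    rw [D.q_z h hu0 (h.BL hb), hW b hb]
    exact addself _
  apply hbm
  rw [this]
  exact dl_eq_zero.mpr (ap_one ρ _)

/-- **`|B| ≤ |t(M)|`** -/
theorem card_le_range : Nat.card B ≤ Nat.card t.range := by
  classical
  have n := D.mn
  obtain ⟨u0, hu0, hm, -⟩ := D.toQt.exists_mv h
  let iK : Module (ZMod 2) K := AddCommGroup.zmodModule (fun k => by rw [two_nsmul]; exact D.char2 h k)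
  let t' : M →ₗ[ZMod 2] K := t.toZModLinearMap 2
  have ht' : ∀ m, t' m = t m := fun m => rfl
  have hcard : Nat.card t.range = Nat.card (LinearMap.range t') := by
    refine Nat.card_congr (Equiv.subtypeEquivRight fun x => ?_)
    rw [AddMonoidHom.mem_range, LinearMap.mem_range]
    rfl
  have hsm : ∀ (c : ZMod 2) (k : K) (x : V), (c • k) • x = c • (k • x) := by
    intro c k x
    rcases z2 c with rfl | rfl
    · rw [zero_smul, zero_smul, zero_smul]
    · rw [one_smul, one_smul]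
  let κ : B → Module.Dual (ZMod 2) (LinearMap.range t') := fun b =>
    { toFun := fun τ => f ((τ : K) • q u0) (q (u0 * ((b : Γ) * u0 * (b : Γ)⁻¹)))
      map_add' := fun τ τ' => by
        rw [Submodule.coe_add, add_smul, map_add f, LinearMap.add_apply]
      map_smul' := fun c τ => by
        rw [Submodule.coe_smul, hsm, map_smul f, LinearMap.smul_apply, RingHom.id_apply] }
  have hfE : Finite (Module.Dual (ZMod 2) (LinearMap.range t')) := DFunLike.finite _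
  rw [hcard, ← card_dual (E := LinearMap.range t')]
  refine Nat.card_le_card_of_injective κ ?_
  intro b b' e
  -- `b b' = 1`
  have hbb : (b : Γ) * (b' : Γ) = 1 := by
    by_contra hne
    have hbb' : (b : Γ) * (b' : Γ) ∈ B := B.mul_mem b.2 b'.2
    obtain ⟨v, hv, hne'⟩ := h.sep (n.le hu0) hm hbb' hne
    obtain ⟨-, h2⟩ := h.two (n.le hu0) hm
    obtain ⟨m, w, hw, rfl⟩ := h2 v
    apply hne'
    have hz := h.zmul (n.le hu0) b.2 b'.2
    have hz1 := n.z_mem h hu0 (h.BL b.2)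
    have hz2 := n.z_mem h hu0 (h.BL b'.2)
    rw [map_add, dl_eq_zero.mpr (hw _ hbb'), add_zero, ← h.d_z (n.le hu0) (h.BL hbb'),
      h.pc (h.z_mem (n.le hu0) (h.BL hbb')) (n.le hu0), hz]
    have e1 := congrArg (fun g : Module.Dual (ZMod 2) (LinearMap.range t') => g ⟨t' m, m, rfl⟩) e
    change f (t m • q u0) (q _) = f (t m • q u0) (q _) at e1
    rw [D.tq m u0 hu0 _ hz1, D.tq m u0 hu0 _ hz2] at e1
    have h3 := n.le hz1
    have h4 := n.le hz2
    rw [h.pmul _ h3.1 h3.2 _ h4.1 h4.2 _ (h.dX (n.le hu0) m), e1]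
    exact z2add _
  have h1 : (b : Γ) = (b' : Γ)⁻¹ := eq_inv_of_mul_eq_one_left hbb
  rw [h.inv b'.2] at h1
  exact Subtype.ext h1

/-- the output of the counting -/
theorem count {p : Sm h D.mn m0 →ₗ[ZMod 2] V} (ps : Function.Surjective p)
    (pq : ∀ u (hu : u ∈ Y1), q u = p ⟨dl ρ u m0, u, hu, rfl⟩) :
    Function.Surjective t ∧ Nat.card K = Nat.card B ∧ Sm h D.mn m0 ⊔ cv ρ B = ⊤ ∧
      ∀ v : Sm h D.mn m0, (∀ b ∈ B, s b (p v) = p v) → (v : M) ∈ cv ρ B := by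
  classical
  obtain ⟨u0, hu0, hm, -⟩ := D.toQt.exists_mv h
  have hWB := D.e0_notMem h hu0 hm
  -- the fixed points of `B` on `S`
  let C : Submodule (ZMod 2) (Sm h D.mn m0) := (cv ρ B).comap (Sm h D.mn m0).subtype
  let W : Submodule (ZMod 2) V :=
    { carrier := {x | ∀ b ∈ B, s b x = x}
      zero_mem' := fun b _ => map_zero _
      add_mem' := fun hx hy b hb => by rw [map_add, hx b hb, hy b hb]
      smul_mem' := fun c x hx b hb => by rw [map_smul, hx b hb] }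
  have hcW : Nat.card W = Nat.card (D.WB h) := Nat.card_congr (Equiv.subtypeEquivRight fun x => Iff.rfl)
  have hCW : C ≤ W.comap p := by
    rintro ⟨_, u, hu, rfl⟩ hv b hb
    rw [← pq u hu]
    exact D.q_conj h hu (h.BL hb) (hv b hb)
  have c1 : Nat.card C = Nat.card (Sm h D.mn m0 ⊓ cv ρ B : Submodule (ZMod 2) M) := by
    refine Nat.card_congr
      { toFun := fun x => ⟨x.1.1, x.1.2, x.2⟩
        invFun := fun x => ⟨⟨x.1, x.2.1⟩, x.2.2⟩
        left_inv := fun x => rfl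
        right_inv := fun x => rfl }
  have c2 := card_comap_sur p ps W
  have c3 := card_sur p ps
  have c4 : Nat.card K * Nat.card W ≤ Nat.card V := by
    rw [hcW]
    refine card_lt fun e => hWB ?_
    rw [e]; trivial
  have c5 : Nat.card C ≤ Nat.card (W.comap p) :=
    Nat.card_le_card_of_injective (Submodule.inclusion hCW) (Submodule.inclusion_injective hCW)
  obtain ⟨c6, c7⟩ := h.U_le (Sm h D.mn m0)
  rw [← c1] at c6 c7
  have c8 := D.card_le_range h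
  have c9 : Nat.card t.range ≤ Nat.card K := Nat.card_le_card_of_injective _ Subtype.val_injective
  set nS := Nat.card (Sm h D.mn m0)
  set nk := Nat.card (LinearMap.ker p) with hnk
  set nD := Nat.card (cb ρ B (Sm h D.mn m0)) with hnD
  have pk : 0 < nk := Nat.card_pos
  have pW : 0 < Nat.card W := Nat.card_pos
  have pD : 0 < nD := Nat.card_pos
  have pS : 0 < nS := Nat.card_pos
  have pB : 0 < Nat.card B := Nat.card_pos
  have pC : 0 < Nat.card C := Nat.card_pos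
  -- `|K| |W| |ker| ≤ |S| ≤ |B| |C| ≤ |B| |W| |ker|`
  have a1 : Nat.card K * (Nat.card W * nk) ≤ nS := by
    rw [c3, ← mul_assoc]; exact Nat.mul_le_mul_right _ c4
  have a2 : nS ≤ nD * nS := Nat.le_mul_of_pos_left _ pD
  have a3 : Nat.card B * Nat.card C ≤ Nat.card B * (Nat.card W * nk) := by
    rw [← c2]; exact Nat.mul_le_mul_left _ c5
  have a4 : Nat.card K ≤ Nat.card B :=
    Nat.le_of_mul_le_mul_right ((a1.trans a2).trans (c6.trans a3)) (Nat.mul_pos pW pk)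
  have a5 : Nat.card K = Nat.card B := le_antisymm a4 (c8.trans c9)
  rw [← a5] at a3 c6 c7 c8
  have a6 : nS = Nat.card K * Nat.card C := le_antisymm (a2.trans c6) (a3.trans a1)
  have a7 : Nat.card K * (Nat.card W * nk) ≤ Nat.card K * Nat.card C := a1.trans a6.le
  have a8 : Nat.card (W.comap p) ≤ Nat.card C := by
    rw [c2]; exact Nat.le_of_mul_le_mul_left a7 Nat.card_pos
  have a9 : C.toAddSubgroup = (W.comap p).toAddSubgroup :=
    AddSubgroup.eq_of_le_of_card_ge hCW a8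
  refine ⟨?_, a5, ?_, fun v hv => ?_⟩
  · rw [← AddMonoidHom.range_eq_top]
    exact AddSubgroup.eq_top_of_le_card _ c8
  · rcases c7 (by rw [← a6]; exact a2) with ⟨-, h1⟩ | h1
    · exact h1
    · exfalso
      have h2 : nD = Nat.card K := by rw [hnD, h1, a5]
      have h3 : nD * nS ≤ nS := by rw [← a6] at c6; exact c6
      have h4 : nD ≤ 1 := by
        by_contra hlt
        push Not at hlt
        have : 2 * nS ≤ nD * nS := Nat.mul_le_mul_right _ hlt
        omega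
      rw [h2] at h4
      have h5 : Nat.card K ≠ 1 := by
        have : Nontrivial K := inferInstance
        exact Finite.one_lt_card.ne'
      have h6 : 0 < Nat.card K := Nat.card_pos
      omega
  · have h1 : v ∈ C.toAddSubgroup := by rw [a9]; exact hv
    exact h1

end Fd

end Cfsg.Agent.Omega.FOne.ThmA

end

section


/-!
# THEOREM A (helper297 #20655): `B` is a full root group of `K`-transvections on `V`
-/

set_option autoImplicit false
set_option linter.unusedSectionVars false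

namespace Cfsg.Agent.Omega.FOne.ThmA

open Subgroup
open Cfsg.Agent.Omega.FOne.Tvw (z2 addself z2add eq_of_add_eq_zero')
open Cfsg.Agent.Omega.FOne.NOv.TrA (ap_mul ap_one inv_ap ap_inv)

universe u

variable {Γ : Type*} {M : Type u} [Group Γ] [AddCommGroup M] [Module (ZMod 2) M]
variable {ρ : Γ →* Module.End (ZMod 2) M} {B L N : Subgroup Γ} {X : Submodule (ZMod 2) M} {Φ : Γ → M → ZMod 2}

/-- `B` acts on `V` as the group of all `x ↦ x + k φ(x) a` -/
structure Rt (B : Subgroup Γ) {V K : Type*} [AddCommGroup V] [Module (ZMod 2) V] [Field K] [Module K V]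
    (s : Γ → V →ₗ[ZMod 2] V) (φ : V →ₗ[K] K) (a : V) : Prop where
  fa : φ a = 0
  a0 : a ≠ 0
  e0 : ∃ e, φ e = 1
  ex : ∀ k : K, ∃ b ∈ B, ∀ x, s b x = x + (k * φ x) • a
  all : ∀ b ∈ B, ∃ k : K, ∀ x, s b x = x + (k * φ x) • a

namespace Fd

variable [Finite Γ] [Finite M] (h : Fr ρ B L N X Φ) {Y1 : Subgroup Γ} {m0 : M} {V : Type u} [AddCommGroup V]
  [Module (ZMod 2) V] [Finite V] {q : Γ → V} {K : Type u} [Field K] [Finite K] [Module K V]
  {f : V →ₗ[ZMod 2] Module.Dual (ZMod 2) V} {s : Γ → V →ₗ[ZMod 2] V} {t : M →+ K}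
  (D : Fd ρ B L X Φ Y1 m0 q f s t)
include h D

theorem exists_root (hs : Function.Surjective t) (hc : Nat.card K = Nat.card B) :
    ∃ (φ : V →ₗ[K] K) (a : V), Rt B s φ a ∧ (∀ k : K, ∀ x y, f (k • x) y = f x (k • y)) ∧
      ∀ x y, φ x = 0 → f x ((φ y) • a) = 0 := by
  classical
  have n := D.mn
  obtain ⟨u0, hu0, hm, -⟩ := D.toQt.exists_mv h
  have hWB := D.e0_notMem h hu0 hm
  set e0 := q u0 with he0
  have hk : ∀ k : K, ∀ x y, f (k • x) y = f x (k • y) := by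
    intro k x y
    obtain ⟨m, rfl⟩ := hs k
    exact D.ftk h m x y
  -- the functional
  obtain ⟨φ0, h01, h02⟩ := Submodule.exists_le_ker_of_notMem hWB
  let φ : V →ₗ[K] K := (φ0 e0)⁻¹ • φ0
  have φe : φ e0 = 1 := by
    change (φ0 e0)⁻¹ * φ0 e0 = 1
    exact inv_mul_cancel₀ h01
  have φW : ∀ x ∈ D.WB h, φ x = 0 := by
    intro x hx
    change (φ0 e0)⁻¹ * φ0 x = 0
    rw [LinearMap.mem_ker.mp (h02 hx), mul_zero]
  have hdec : ∀ x, ∀ b ∈ B, s b x + x = φ x • (s b e0 + e0) := by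
    intro x
    obtain ⟨m, hm'⟩ := D.dec h hu0 hm x
    have h1 : x - t m • e0 ∈ D.WB h := by
      intro b hb
      have h2 := hm' b hb
      rw [map_sub, D.sk b (h.BL hb)]
      rw [smul_add] at h2
      have h3 := addself x
      have h4 := addself (t m • e0)
      have h5 : s b x = x + t m • s b e0 + t m • e0 := by
        have := congrArg (fun z => z + x) h2
        have e1 : s b x + x + x = s b x := by rw [add_assoc, h3, add_zero]
        change s b x + x + x = t m • s b e0 + t m • e0 + x at this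
        rw [e1] at this
        rw [this]; abel
      rw [h5]
      have e2 : x + t m • s b e0 + t m • e0 - t m • s b e0 = x - t m • e0 + (t m • e0 + t m • e0) := by abel
      rw [e2, h4, add_zero]
    have h2 := φW _ h1
    rw [map_sub, map_smul, φe, smul_eq_mul, mul_one, sub_eq_zero] at h2
    rw [h2]; exact hm'
  have hW0 : ∀ x, φ x = 0 → x ∈ D.WB h := by
    intro x hx b hb
    have := hdec x b hb
    rw [hx, zero_smul] at this
    exact eq_of_add_eq_zero' this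
  -- `b₀` and `a`
  obtain ⟨b0, hb0, -, -⟩ := id hm
  obtain ⟨b0, hb0, hb01⟩ : ∃ b0 ∈ B, b0 ≠ 1 := by
    obtain ⟨b, hb, m, hbm⟩ := hm
    refine ⟨b, hb, ?_⟩
    rintro rfl
    exact hbm (dl_eq_zero.mpr (ap_one ρ _))
  set a := s b0 e0 + e0 with ha
  have a0 : a ≠ 0 := by
    intro e
    apply hb01
    refine D.faith h hb0 fun x => ?_
    have := hdec x b0 hb0
    rw [← ha, e, smul_zero] at this
    exact eq_of_add_eq_zero' this
  -- `w ⊥ [V, B]`
  have hperp : ∀ x, φ x = 0 → ∀ b ∈ B, ∀ y, f x (s b y + y) = 0 := by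
    intro x hx b hb y
    rw [← D.sym_b h hb, (D.mem_WB h).mp (hW0 x hx) b hb, addself, map_zero]; rfl
  have hfix : ∀ b ∈ B, ∀ y, φ (s b y + y) = 0 := fun b hb y => φW _ fun b' hb' => D.quadr h hb hb' y
  -- a vector `z = a_b + k a` orthogonal to `K e₀` is `0`
  have hz : ∀ b ∈ B, ∀ k : K, (∀ τ : K, f (τ • e0) (s b e0 + e0) = f (τ • e0) (k • a)) → s b e0 + e0 = k • a := by
    intro b hb k hτ
    refine D.feq h fun y => ?_
    rw [D.fsymm h, D.fsymm h (k • a)]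
    have hy : y = (y - φ y • e0) + φ y • e0 := by abel
    have hy0 : φ (y - φ y • e0) = 0 := by rw [map_sub, map_smul, φe, smul_eq_mul, mul_one, sub_self]
    have e1 : f (y - φ y • e0) (s b e0 + e0) = 0 := hperp _ hy0 b hb e0
    have e2 : f (y - φ y • e0) (k • a) = 0 := by
      rw [← hk, ha]
      exact hperp _ (by rw [map_smul, hy0, smul_zero]) b0 hb0 e0
    have e3 : ∀ z, f y z = f (y - φ y • e0) z + f (φ y • e0) z := by
      intro z
      conv_lhs => rw [hy]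
      rw [map_add f, LinearMap.add_apply]
    rw [e3, e3 (k • a), e1, e2, hτ]
  -- the functionals
  have hch : ∀ k : K, k + k = 0 := D.char2 h
  let iK : Module (ZMod 2) K := AddCommGroup.zmodModule (fun k => by rw [two_nsmul]; exact hch k)
  have hsm : ∀ (c : ZMod 2) (k : K) (x : V), (c • k) • x = c • (k • x) := by
    intro c k x
    rcases z2 c with rfl | rfl
    · rw [zero_smul, zero_smul, zero_smul]
    · rw [one_smul, one_smul]
  have hfK : Finite (Module.Dual (ZMod 2) K) := DFunLike.finite _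
  let F : V → Module.Dual (ZMod 2) K := fun x =>
    { toFun := fun τ => f (τ • e0) x
      map_add' := fun τ τ' => by rw [add_smul, map_add f, LinearMap.add_apply]
      map_smul' := fun c τ => by rw [hsm, map_smul f, LinearMap.smul_apply, RingHom.id_apply] }
  have hF : ∀ x τ, F x τ = f (τ • e0) x := fun _ _ => rfl
  let κ : B → Module.Dual (ZMod 2) K := fun b => F (s b e0 + e0)
  have hκ : Function.Injective κ := by
    intro b b' e
    have h1 : s b e0 + e0 = s b' e0 + e0 := by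
      have e1 : ∀ τ : K, f (τ • e0) (s b e0 + e0 + (s b' e0 + e0)) = 0 := by
        intro τ
        have := congrArg (fun g : Module.Dual (ZMod 2) K => g τ) e
        change f (τ • e0) (s b e0 + e0) = f (τ • e0) (s b' e0 + e0) at this
        rw [map_add, this]; exact z2add _
      have e2 : s b e0 + e0 + (s b' e0 + e0) = 0 := by
        refine D.fz h fun y => ?_
        rw [D.fsymm h]
        have hy : y = (y - φ y • e0) + φ y • e0 := by abel
        have hy0 : φ (y - φ y • e0) = 0 := by rw [map_sub, map_smul, φe, smul_eq_mul, mul_one, sub_self]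
        have e3 : ∀ z, f y z = f (y - φ y • e0) z + f (φ y • e0) z := by
          intro z
          conv_lhs => rw [hy]
          rw [map_add f, LinearMap.add_apply]
        rw [e3, e1, add_zero, map_add, hperp _ hy0 b b.2 e0, hperp _ hy0 b' b'.2 e0, add_zero]
      exact eq_of_add_eq_zero' e2
    have h2 : (b : Γ) * (b' : Γ) = 1 := by
      refine D.faith h (B.mul_mem b.2 b'.2) fun x => ?_
      have e3 : s b' x = x + φ x • (s b' e0 + e0) := by
        have := hdec x b' b'.2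
        rw [← this]; rw [add_comm (s b' x), ← add_assoc, addself, zero_add]
      have e4 : s b x = x + φ x • (s b e0 + e0) := by
        have := hdec x b b.2
        rw [← this]; rw [add_comm (s b x), ← add_assoc, addself, zero_add]
      have e5 : s b (s b' e0 + e0) = s b' e0 + e0 := by rw [← h1]; exact D.quadr h b.2 b.2 e0
      rw [D.s_mul (h.BL b.2) (h.BL b'.2), e3, map_add, D.sk b (h.BL b.2), e5, e4, h1, add_assoc, addself, add_zero]
    have h3 : (b : Γ) = (b' : Γ)⁻¹ := eq_inv_of_mul_eq_one_left h2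
    rw [h.inv b'.2] at h3
    exact Subtype.ext h3
  have hκs : Function.Surjective κ := by
    have : Nat.card (Module.Dual (ZMod 2) K) ≤ Nat.card B := by rw [card_dual, hc]
    exact (hκ.bijective_of_nat_card_le this).2
  have hex : ∀ k : K, ∃ b ∈ B, s b e0 + e0 = k • a := by
    intro k
    obtain ⟨b, hb⟩ := hκs (F (k • a))
    refine ⟨b, b.2, hz b b.2 k fun τ => ?_⟩
    exact congrArg (fun g : Module.Dual (ZMod 2) K => g τ) hb
  have hact : ∀ b ∈ B, ∀ k : K, s b e0 + e0 = k • a → ∀ x, s b x = x + (k * φ x) • a := by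
    intro b hb k hk' x
    have := hdec x b hb
    rw [hk', smul_smul, mul_comm] at this
    rw [← this, add_comm (s b x), ← add_assoc, addself, zero_add]
  refine ⟨φ, a, ⟨hfix b0 hb0 e0, a0, ⟨e0, φe⟩, fun k => ?_, ?_⟩, hk, fun x y hx => ?_⟩
  · obtain ⟨b, hb, hb'⟩ := hex k
    exact ⟨b, hb, hact b hb k hb'⟩
  · choose β hβ hβ' using hex
    let g : K → B := fun k => ⟨β k, hβ k⟩
    have hg : Function.Injective g := by
      intro k k' e
      have e1 : β k = β k' := congrArg Subtype.val e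
      have e2 : k • a = k' • a := by rw [← hβ' k, e1, hβ' k']
      have e3 : (k - k') • a = 0 := by rw [sub_smul, e2, sub_self]
      rcases smul_eq_zero.mp e3 with e4 | e4
      · exact sub_eq_zero.mp e4
      · exact absurd e4 a0
    have hgs : Function.Surjective g := (hg.bijective_of_nat_card_le hc.ge).2
    intro b hb
    obtain ⟨k, hk'⟩ := hgs ⟨b, hb⟩
    have e1 : β k = b := congrArg Subtype.val hk'
    refine ⟨k, hact b hb k ?_⟩
    rw [← e1]; exact hβ' k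
  · rw [← hk, ha]
    exact hperp _ (by rw [map_smul, hx, smul_zero]) b0 hb0 e0

/-- a conjugate in general position -/
theorem exists_opp {φ : V →ₗ[K] K} {a : V} (R : Rt B s φ a) (hk : ∀ k : K, ∀ x y, f (k • x) y = f x (k • y))
    (hp : ∀ x y, φ x = 0 → f x ((φ y) • a) = 0) : ∃ g ∈ L, φ (s g a) ≠ 0 ∧ φ (s g⁻¹ a) ≠ 0 := by
  obtain ⟨e, he⟩ := R.e0
  have hp' : ∀ x, φ x = 0 → ∀ k : K, f x (k • a) = 0 := by
    intro x hx k
    have := hp x (k • e) hx
    have e1 : φ (k • e) = k := by rw [map_smul, he, smul_eq_mul, mul_one]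
    rwa [e1] at this
  obtain ⟨g, hg, hga⟩ : ∃ g ∈ L, φ (s g a) ≠ 0 := by
    by_contra hcon
    push Not at hcon
    let W : AddSubgroup V :=
      { carrier := {x | ∀ l ∈ L, φ (s l x) = 0}
        zero_mem' := fun l _ => by rw [map_zero, map_zero]
        add_mem' := fun hx hy l hl => by rw [map_add, map_add, hx l hl, hy l hl, add_zero]
        neg_mem' := fun hx l hl => by rw [map_neg, map_neg, hx l hl, neg_zero] }
    rcases D.toQt.irr h W (fun l hl u hu hq l' hl' => by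
      rw [← D.sl l hl u hu, ← D.s_mul hl' hl]
      exact hq _ (L.mul_mem hl' hl)) with h1 | h1
    · have : a ∈ W := hcon
      rw [h1, AddSubgroup.mem_bot] at this
      exact R.a0 this
    · have h2 : e ∈ W := by rw [h1]; trivial
      have h3 := h2 1 L.one_mem
      rw [D.s_one, he] at h3
      exact one_ne_zero h3
  refine ⟨g, hg, hga, fun h0 => R.a0 ?_⟩
  -- `f (k a) (s g a) = 0` for all `k`
  have h1 : ∀ k : K, f (k • a) (s g a) = 0 := by
    intro k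
    rw [D.fsymm h, D.fs' h hg, D.sk _ (L.inv_mem hg), D.fsymm h]
    have := hp' (k • s g⁻¹ a) (by rw [map_smul, h0, smul_zero]) 1
    rwa [one_smul] at this
  -- `s g a = w + φ(s g a) e`
  set c := φ (s g a) with hc
  have hw : φ (s g a - c • e) = 0 := by rw [map_sub, map_smul, he, smul_eq_mul, mul_one, hc, sub_self]
  have h2 : ∀ k : K, f (k • a) (c • e) = 0 := by
    intro k
    have e1 := h1 k
    have e2 : s g a = (s g a - c • e) + c • e := by abel
    rw [e2, map_add, D.fsymm h, hp' _ hw k, zero_add] at e1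
    exact e1
  refine D.fz h fun y => ?_
  have e3 : y = (y - φ y • e) + φ y • e := by abel
  have e4 : φ (y - φ y • e) = 0 := by rw [map_sub, map_smul, he, smul_eq_mul, mul_one, sub_self]
  have e5 : f a (y - φ y • e) = 0 := by
    rw [D.fsymm h]
    have := hp' _ e4 1
    rwa [one_smul] at this
  have e6 : f a (φ y • e) = 0 := by
    have := h2 (φ y * c⁻¹)
    rw [hk, smul_smul, mul_assoc, inv_mul_cancel₀ hga, mul_one] at this
    exact this
  rw [e3, map_add, e5, e6, add_zero]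

end Fd

end Cfsg.Agent.Omega.FOne.ThmA

end

section


/-!
# THEOREM A (helper297 #20655): `⟨B, B^g⟩ = SL₂(K)` and the coordinates `e : M → K²`
-/

set_option autoImplicit false
set_option linter.unusedSectionVars false

namespace Cfsg.Agent.Omega.FOne.ThmA

open Subgroup
open Cfsg.Agent.Lib.SL2Mat
open Cfsg.Agent.Omega.NatPair (ext2 ap_zero' ap_one')
open Cfsg.Agent.Omega.FOne.Tvw (z2 addself z2add eq_of_add_eq_zero')
open Cfsg.Agent.Omega.FOne.NOv.TrA (ap_mul ap_one inv_ap ap_inv)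

universe u

/-- extension of a homomorphism from `S` to `M = S + C` by zero on `C` -/
theorem exists_ext {M A : Type*} [AddCommGroup M] [Module (ZMod 2) M] [AddCommGroup A] {S C : Submodule (ZMod 2) M}
    (hSC : S ⊔ C = ⊤) (F : S →+ A) (h0 : ∀ v : S, (v : M) ∈ C → F v = 0) :
    ∃ G : M →+ A, (∀ v : S, G v = F v) ∧ ∀ w ∈ C, G w = 0 := by
  have hd : ∀ m : M, ∃ v : S, m - (v : M) ∈ C := by
    intro m
    have hm : m ∈ S ⊔ C := by rw [hSC]; trivial
    obtain ⟨v, hv, w, hw, rfl⟩ := Submodule.mem_sup.mp hm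
    exact ⟨⟨v, hv⟩, by rw [add_sub_cancel_left]; exact hw⟩
  choose v hv using hd
  have wd : ∀ (m : M) (v' : S), m - (v' : M) ∈ C → F (v m) = F v' := by
    intro m v' hv'
    have h1 : F (v m - v') = 0 := h0 _ (by
      have := C.sub_mem hv' (hv m)
      rwa [sub_sub_sub_cancel_left] at this)
    rwa [map_sub, sub_eq_zero] at h1
  refine ⟨AddMonoidHom.mk' (fun m => F (v m)) fun a b => ?_, fun x => ?_, fun w hw => ?_⟩
  · rw [← map_add]
    refine wd _ _ ?_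
    have := C.add_mem (hv a) (hv b)
    rw [Submodule.coe_add]
    convert this using 1
    abel
  · exact wd _ x (by rw [sub_self]; exact C.zero_mem)
  · have := wd w 0 (by rw [Submodule.coe_zero, sub_zero]; exact hw)
    rwa [map_zero] at this

variable {Γ : Type*} {M : Type u} [Group Γ] [AddCommGroup M] [Module (ZMod 2) M]
variable {ρ : Γ →* Module.End (ZMod 2) M} {B L N : Subgroup Γ} {X : Submodule (ZMod 2) M} {Φ : Γ → M → ZMod 2}

namespace Fd

variable [Finite Γ] [Finite M] (h : Fr ρ B L N X Φ) {Y1 : Subgroup Γ} {m0 : M} {V : Type u} [AddCommGroup V]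
  [Module (ZMod 2) V] [Finite V] {q : Γ → V} {K : Type u} [Field K] [Finite K] [Module K V]
  {f : V →ₗ[ZMod 2] Module.Dual (ZMod 2) V} {s : Γ → V →ₗ[ZMod 2] V} {t : M →+ K}
  (D : Fd ρ B L X Φ Y1 m0 q f s t) {p : Sm h D.mn m0 →ₗ[ZMod 2] V}
  (pq : ∀ u (hu : u ∈ Y1), q u = p ⟨dl ρ u m0, u, hu, rfl⟩)
include h D

include pq in
theorem p_s {l : Γ} (hl : l ∈ L) (v : Sm h D.mn m0) : p ⟨ρ l v, Sm_inv h D.mn hl v.2⟩ = s l (p v) := by
  obtain ⟨_, u, hu, rfl⟩ := v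
  rw [← pq u hu, D.sl l hl u hu, pq _ (D.mn.inv l hl u hu)]
  congr 1
  exact Subtype.ext (h.d_conj (D.mn.le hu) hl m0).symm

include pq in
theorem p_d {l : Γ} (hl : l ∈ L) (v : Sm h D.mn m0) :
    ∃ hm : ρ l v + (v : M) ∈ Sm h D.mn m0, p ⟨ρ l v + v, hm⟩ = s l (p v) + p v := by
  refine ⟨(Sm h D.mn m0).add_mem (Sm_inv h D.mn hl v.2) v.2, ?_⟩
  rw [← D.p_s h pq hl, ← map_add]
  rfl

include pq in
theorem p_zero {v : Sm h D.mn m0} (hv : p v = 0) {g : Γ} (hg : g ∈ L1 B L) : ρ g v = v := by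
  obtain ⟨_, u, hu, rfl⟩ := v
  rw [← pq u hu, D.zero u hu] at hv
  exact hv g hg m0

variable (hS : Sm h D.mn m0 ⊔ cv ρ B = ⊤)

include hS in
/-- `[M, L₁] ≤ S` -/
theorem dS {g : Γ} (hg : g ∈ L1 B L) (m : M) : ρ g m + m ∈ Sm h D.mn m0 := by
  induction hg using closure_induction generalizing m with
  | mem x hx =>
    obtain ⟨l, hl, b, hb, rfl⟩ := hx
    have hm : ρ l⁻¹ m ∈ Sm h D.mn m0 ⊔ cv ρ B := by rw [hS]; trivial
    obtain ⟨v, hv, w, hw, e⟩ := Submodule.mem_sup.mp hm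
    have e1 : ρ (l * b * l⁻¹) m + m = ρ l (ρ b v + v) := by
      have e2 : m = ρ l (v + w) := by rw [e, ap_inv]
      rw [ap_mul, ap_mul, ← e, map_add, hw b hb, map_add, map_add]
      conv_lhs => rw [e2, map_add]
      linear_combination (norm := module) addself (ρ l w)
    rw [e1]
    exact Sm_inv h D.mn hl ((Sm h D.mn m0).add_mem (Sm_inv h D.mn (h.BL hb) hv) hv)
  | one => rw [ap_one, addself]; exact Submodule.zero_mem _
  | mul x y _ _ hx hy =>
    have e1 : ρ (x * y) m + m = (ρ x (ρ y m) + ρ y m) + (ρ y m + m) := by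
      rw [ap_mul]
      linear_combination (norm := module) (-1 : ZMod 2) • addself (ρ y m)
    rw [e1]
    exact Submodule.add_mem _ (hx _) (hy _)
  | inv x _ hx =>
    have h1 := hx (ρ x⁻¹ m)
    rwa [ap_inv, add_comm] at h1

include pq hS in
/-- an element of `L₁` trivial on `V` is trivial on `S` -/
theorem triv_S {r : Γ} (hr : r ∈ L1 B L) (hV : ∀ x, s r x = x) {v : M} (hv : v ∈ Sm h D.mn m0) : ρ r v = v := by
  have hLB := L1_le h.BL
  let R : Subgroup Γ :=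
    { carrier := {x | x ∈ L1 B L ∧ ∀ y, s x y = y}
      one_mem' := ⟨one_mem _, fun y => D.s_one y⟩
      mul_mem' := by
        rintro x y ⟨hx, hx1⟩ ⟨hy, hy1⟩
        exact ⟨mul_mem hx hy, fun z => by rw [D.s_mul (hLB hx) (hLB hy), hy1, hx1]⟩
      inv_mem' := by
        rintro x ⟨hx, hx1⟩
        refine ⟨inv_mem hx, fun z => ?_⟩
        conv_lhs => rw [← hx1 z]
        exact D.s_inv (hLB hx) z }
  refine h.rad R (fun x hx => hx.1) ?_ ?_ r ⟨hr, hV⟩ v (Sm_le h D.mn hv)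
  · rintro g hg x ⟨hx, hx1⟩
    refine ⟨mul_mem (mul_mem hg hx) (inv_mem hg), fun z => ?_⟩
    rw [D.s_mul (L.mul_mem (hLB hg) (hLB hx)) (L.inv_mem (hLB hg)), D.s_mul (hLB hg) (hLB hx), hx1,
      D.s_inv' (hLB hg)]
  · rintro ⟨x, hx, hx1⟩
    refine ⟨2, Subtype.ext ?_⟩
    change x ^ (2 ^ 2) = 1
    refine h.ext fun m => ?_
    -- `x² m = m + z`, `z` fixed
    have key : ∀ m, ∃ z, ρ x z = z ∧ ρ x (ρ x m) = m + z := by
      intro m
      have h1 := D.dS h hS hx m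
      obtain ⟨h2, h3⟩ := D.p_d h pq (hLB hx) ⟨_, h1⟩
      rw [hx1, addself] at h3
      have h4 := D.p_zero h pq h3 hx
      refine ⟨_, h4, ?_⟩
      change ρ x (ρ x m) = m + (ρ x (ρ x m + m) + (ρ x m + m))
      rw [map_add]
      linear_combination (norm := module) (-1 : ZMod 2) • addself (ρ x m) - addself m
    have e1 : x ^ (2 ^ 2) = x * (x * (x * x)) := by
      rw [show (2 : ℕ) ^ 2 = 4 from rfl]
      simp only [pow_succ, pow_zero, one_mul, mul_assoc]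
    obtain ⟨z, hz1, hz2⟩ := key m
    rw [e1, ap_mul, ap_mul, ap_mul, ap_one, hz2, map_add, map_add, hz1, hz1, hz2, add_assoc, addself, add_zero]

include pq hS in
/-- **the coordinates and the group `SL₂(K)`** -/
theorem exists_sl (ps : Function.Surjective p)
    (hfix : ∀ v : Sm h D.mn m0, (∀ b ∈ B, s b (p v) = p v) → (v : M) ∈ cv ρ B) {φ : V →ₗ[K] K} {a : V}
    (R : Rt B s φ a) {g : Γ} (hg : g ∈ L) (hc : φ (s g a) ≠ 0) (hd : φ (s g⁻¹ a) ≠ 0) :
    ∃ (l : Matrix.SpecialLinearGroup (Fin 2) K →* Γ) (e : M →+ (Fin 2 → K)),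
      (∀ A m, e (ρ (l A) m) = NatPair.ap A (e m)) ∧ (∀ A m, e m = 0 → ρ (l A) m = m) ∧
      (∀ x, ∃ v ∈ Sm h D.mn m0, e v = x) ∧ (∀ A, l A ∈ L1 B L) ∧ ∀ k, l (up k) ∈ B := by
  classical
  have n := D.mn
  have hLB := L1_le h.BL
  set c := φ (s g a) with hcdef
  set d := φ (s g⁻¹ a) with hddef
  have hch := D.char2 h
  have hgi := L.inv_mem hg
  -- the functional `ψ`
  obtain ⟨ψ, hψ1, hψ2⟩ := exists_ext hS (φ.toAddMonoidHom.comp p.toAddMonoidHom) (by
    intro v hv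
    change φ (p v) = 0
    obtain ⟨b, hb, hb'⟩ := R.ex 1
    obtain ⟨_, u, hu, rfl⟩ := v
    have h1 := D.q_conj h hu (h.BL hb) (hv b hb)
    rw [← pq u hu]
    rw [hb', one_mul] at h1
    have h2 : φ (q u) • a = 0 := by
      have := add_eq_left.mp h1
      exact this
    rcases smul_eq_zero.mp h2 with h3 | h3
    · exact h3
    · exact absurd h3 R.a0)
  have hψ1' : ∀ v (hv : v ∈ Sm h D.mn m0), ψ v = φ (p ⟨v, hv⟩) := fun v hv => hψ1 ⟨v, hv⟩
  have hψ3 : ∀ m, ψ m = 0 → m ∈ cv ρ B := by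
    intro m hm
    have hm' : m ∈ Sm h D.mn m0 ⊔ cv ρ B := by rw [hS]; trivial
    obtain ⟨v, hv, w, hw, rfl⟩ := Submodule.mem_sup.mp hm'
    rw [map_add, hψ2 w hw, add_zero, hψ1' v hv] at hm
    refine Submodule.add_mem _ (hfix ⟨v, hv⟩ fun b hb => ?_) hw
    obtain ⟨k, hk⟩ := R.all b hb
    rw [hk, hm, mul_zero, zero_smul, add_zero]
  let e : M →+ (Fin 2 → K) := AddMonoidHom.mk' (fun m => ![d⁻¹ * ψ (ρ g⁻¹ m), ψ m]) fun m m' => by
    apply ext2
    · simp only [map_add, Pi.add_apply, Matrix.cons_val_zero, mul_add]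
    · simp only [map_add, Pi.add_apply, Matrix.cons_val_one, Matrix.cons_val_fin_one]
  have e0 : ∀ m, e m 0 = d⁻¹ * ψ (ρ g⁻¹ m) := fun m => rfl
  have e1 : ∀ m, e m 1 = ψ m := fun m => rfl
  -- values on `S`
  have eS0 : ∀ v (hv : v ∈ Sm h D.mn m0), e v 0 = d⁻¹ * φ (s g⁻¹ (p ⟨v, hv⟩)) := by
    intro v hv
    rw [e0, hψ1' _ (Sm_inv h n hgi hv)]
    congr 2
    exact D.p_s h pq hgi ⟨v, hv⟩
  have eS1 : ∀ v (hv : v ∈ Sm h D.mn m0), e v 1 = φ (p ⟨v, hv⟩) := fun v hv => hψ1' v hv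
  -- `B`
  have hB : ∀ b ∈ B, ∀ k : K, (∀ x, s b x = x + (k * φ x) • a) → ∀ m, e (ρ b m) = NatPair.ap (up k) (e m) := by
    intro b hb k hk m
    have hm' : m ∈ Sm h D.mn m0 ⊔ cv ρ B := by rw [hS]; trivial
    obtain ⟨v, hv, w, hw, em⟩ := Submodule.mem_sup.mp hm'
    obtain ⟨hδ, hpδ⟩ := D.p_d h pq (h.BL hb) ⟨v, hv⟩
    have hψm : ψ m = φ (p ⟨v, hv⟩) := by rw [← em, map_add, hψ2 w hw, add_zero, hψ1' v hv]
    rw [hk] at hpδ
    have hpδ' : p ⟨ρ b v + v, hδ⟩ = (k * ψ m) • a := by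
      rw [hψm]
      change p ⟨ρ b v + v, hδ⟩ = _ at hpδ
      rw [hpδ, add_comm (p _), add_assoc, addself, add_zero]
    have hbm : ρ b m = m + (ρ b v + v) := by
      rw [← em, map_add, hw b hb]
      linear_combination (norm := module) -addself v
    apply ext2
    · rw [ap_zero', up_00, up_01, one_mul, hbm, map_add, Pi.add_apply, eS0 _ hδ, hpδ', D.sk _ hgi, map_smul,
        smul_eq_mul, e1]
      rw [← hddef]
      field_simp
    · rw [ap_one', up_10, up_11, one_mul, zero_mul, zero_add, hbm, map_add, Pi.add_apply, eS1 _ hδ, hpδ', map_smul,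
        R.fa, smul_zero, add_zero]
  -- `B^g`
  have hBg : ∀ b ∈ B, ∀ k : K, (∀ x, s b x = x + (k * φ x) • a) →
      ∀ m, e (ρ (g * b * g⁻¹) m) = NatPair.ap (lo (k * d * c)) (e m) := by
    intro b hb k hk m
    set m' := ρ g⁻¹ m with hm'def
    have hm' : m' ∈ Sm h D.mn m0 ⊔ cv ρ B := by rw [hS]; trivial
    obtain ⟨v, hv, w, hw, em⟩ := Submodule.mem_sup.mp hm'
    obtain ⟨hδ, hpδ⟩ := D.p_d h pq (h.BL hb) ⟨v, hv⟩
    have hψm : ψ m' = φ (p ⟨v, hv⟩) := by rw [← em, map_add, hψ2 w hw, add_zero, hψ1' v hv]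
    rw [hk] at hpδ
    have hpδ' : p ⟨ρ b v + v, hδ⟩ = (k * ψ m') • a := by
      rw [hψm]
      change p ⟨ρ b v + v, hδ⟩ = _ at hpδ
      rw [hpδ, add_comm (p _), add_assoc, addself, add_zero]
    have hbm : ρ b m' = m' + (ρ b v + v) := by
      rw [← em, map_add, hw b hb]
      linear_combination (norm := module) -addself v
    have hgm : ρ (g * b * g⁻¹) m = m + ρ g (ρ b v + v) := by
      rw [ap_mul, ap_mul, ← hm'def, hbm, map_add, hm'def, ap_inv]
    apply ext2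
    · rw [ap_zero', lo_00, lo_01, one_mul, zero_mul, add_zero, hgm, map_add, Pi.add_apply,
        eS0 _ (Sm_inv h n hg hδ), show p ⟨ρ g (ρ b v + v), Sm_inv h n hg hδ⟩ = s g (p ⟨ρ b v + v, hδ⟩) from
          D.p_s h pq hg ⟨_, hδ⟩, D.s_inv hg, hpδ', map_smul, R.fa, smul_zero, mul_zero, add_zero]
    · rw [ap_one', lo_10, lo_11, one_mul, hgm, map_add, Pi.add_apply, eS1 _ (Sm_inv h n hg hδ),
        show p ⟨ρ g (ρ b v + v), Sm_inv h n hg hδ⟩ = s g (p ⟨ρ b v + v, hδ⟩) from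
          D.p_s h pq hg ⟨_, hδ⟩, hpδ', D.sk _ hg, map_smul, smul_eq_mul, e0, ← hm'def]
      rw [← hcdef]
      field_simp
      ring
  -- surjectivity
  have hsur : ∀ x : Fin 2 → K, ∃ v ∈ Sm h D.mn m0, e v = x := by
    intro x
    obtain ⟨v, hv⟩ := ps (x 0 • a + (x 1 * c⁻¹) • s g a)
    refine ⟨v, v.2, ?_⟩
    apply ext2
    · rw [eS0 _ v.2]
      change d⁻¹ * φ (s g⁻¹ (p v)) = _
      rw [hv, map_add, D.sk _ hgi, D.sk _ hgi, D.s_inv hg, map_add, map_smul, map_smul, R.fa, smul_zero, add_zero,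
        smul_eq_mul, ← hddef]
      field_simp
    · rw [eS1 _ v.2]
      change φ (p v) = _
      rw [hv, map_add, map_smul, map_smul, R.fa, smul_zero, zero_add, smul_eq_mul, ← hcdef]
      field_simp
  -- the group
  let L2 : Subgroup Γ := closure ((B : Set Γ) ∪ {x | ∃ b ∈ B, g * b * g⁻¹ = x})
  have hL2 : L2 ≤ L1 B L := by
    rw [closure_le]
    rintro x (hx | ⟨b, hb, rfl⟩)
    · exact B_le_L1 hx
    · exact L1_conj hg (B_le_L1 hb)
  have hker : ∀ m, e m = 0 → ∀ x ∈ L2, ρ x m = m := by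
    intro m hm x hx
    have h1 : m ∈ cv ρ B := hψ3 m (by rw [← e1, hm]; rfl)
    have h2 : ρ g⁻¹ m ∈ cv ρ B := by
      refine hψ3 _ ?_
      have := e0 m
      rw [hm] at this
      rcases mul_eq_zero.mp this.symm with h3 | h3
      · exact absurd h3 (inv_ne_zero hd)
      · exact h3
    induction hx using closure_induction with
    | mem y hy =>
      rcases hy with hy | ⟨b, hb, rfl⟩
      · exact h1 y hy
      · rw [ap_mul, ap_mul, h2 b hb, ap_inv]
    | one => exact ap_one ρ m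
    | mul y z _ _ hy hz => rw [ap_mul, hz, hy]
    | inv y _ hy =>
      conv_lhs => rw [← hy]
      exact inv_ap ρ y m
  -- the action on `V`
  have hV : ∀ x ∈ L2, ∀ y, ∃ k k2 : K, s x y = y + (k • a + k2 • s g a) := by
    intro x hx
    induction hx using closure_induction with
    | mem y hy =>
      intro z
      rcases hy with hy | ⟨b, hb, rfl⟩
      · obtain ⟨k, hk⟩ := R.all y hy
        exact ⟨k * φ z, 0, by rw [hk, zero_smul, add_zero]⟩
      · obtain ⟨k, hk⟩ := R.all b hb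
        refine ⟨0, k * φ (s g⁻¹ z), ?_⟩
        rw [D.s_mul (L.mul_mem hg (h.BL hb)) hgi, D.s_mul hg (h.BL hb), hk, map_add, D.s_inv' hg, D.sk _ hg,
          zero_smul, zero_add]
    | one =>
      intro z
      exact ⟨0, 0, by rw [D.s_one, zero_smul, zero_smul, add_zero, add_zero]⟩
    | mul y z hy' hz' hy hz =>
      intro v
      obtain ⟨k, k2, hk⟩ := hz v
      obtain ⟨k', k2', hk'⟩ := hy (s z v)
      refine ⟨k + k', k2 + k2', ?_⟩
      rw [D.s_mul (hLB (hL2 hy')) (hLB (hL2 hz')), hk', hk, add_smul, add_smul]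
      abel
    | inv y hy' hy =>
      intro v
      obtain ⟨k, k2, hk⟩ := hy (s y⁻¹ v)
      refine ⟨k, k2, ?_⟩
      rw [D.s_inv' (hLB (hL2 hy'))] at hk
      conv_rhs => rw [hk]
      rw [add_assoc, addself, add_zero]
  -- uniqueness
  have huniq : ∀ x ∈ L2, (∀ m, e (ρ x m) = e m) → x = 1 := by
    intro x hx hxe
    have hxL := hLB (hL2 hx)
    have h1 : ∀ y, s x y = y := by
      intro y
      obtain ⟨v, rfl⟩ := ps y
      obtain ⟨k, k2, hk⟩ := hV x hx (p v)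
      have h2 := hxe v
      have h3 : p ⟨ρ x v, Sm_inv h n hxL v.2⟩ = s x (p v) := D.p_s h pq hxL v
      have h4 := congrFun h2 1
      rw [eS1 _ (Sm_inv h n hxL v.2), h3, hk, eS1 _ v.2, map_add, map_add, map_smul, map_smul, R.fa, smul_zero,
        zero_add] at h4
      have h5 : k2 = 0 := by
        have h6 := add_eq_left.mp h4
        rcases mul_eq_zero.mp h6 with h7 | h7
        · exact h7
        · exact absurd h7 hc
      rw [h5, zero_smul, add_zero] at hk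
      have h7 := congrFun h2 0
      rw [eS0 _ (Sm_inv h n hxL v.2), h3, hk, eS0 _ v.2, map_add, D.sk _ hgi, map_add, map_smul, mul_add] at h7
      have h8 : k = 0 := by
        have h9 := add_eq_left.mp h7
        rcases mul_eq_zero.mp h9 with h10 | h10
        · exact absurd h10 (inv_ne_zero hd)
        · rcases mul_eq_zero.mp h10 with h11 | h11
          · exact h11
          · exact absurd h11 hd
      rw [hk, h8, zero_smul, add_zero]
    refine h.ext fun m => ?_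
    rw [ap_one]
    obtain ⟨v, hv, he⟩ := hsur (e m)
    have h2 : e (m - v) = 0 := by rw [map_sub, he, sub_self]
    have h3 := hker _ h2 x hx
    have h4 := D.triv_S h pq hS (hL2 hx) h1 hv
    rw [map_sub, h4] at h3
    exact sub_left_injective h3
  -- existence
  have hexi : ∀ A : Matrix.SpecialLinearGroup (Fin 2) K, ∃ x ∈ L2, ∀ m, e (ρ x m) = NatPair.ap A (e m) := by
    have hup : ∀ k : K, ∃ x ∈ L2, ∀ m, e (ρ x m) = NatPair.ap (up k) (e m) := by
      intro k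
      obtain ⟨b, hb, hk⟩ := R.ex k
      exact ⟨b, subset_closure (Or.inl hb), hB b hb k hk⟩
    have hlo : ∀ k : K, ∃ x ∈ L2, ∀ m, e (ρ x m) = NatPair.ap (lo k) (e m) := by
      intro k
      obtain ⟨b, hb, hk⟩ := R.ex (k * (d * c)⁻¹)
      refine ⟨g * b * g⁻¹, subset_closure (Or.inr ⟨b, hb, rfl⟩), fun m => ?_⟩
      rw [hBg b hb _ hk]
      congr 2
      field_simp
    intro A
    obtain ⟨k1, k2, k3, k4, rfl⟩ := exists_up_lo A
    obtain ⟨x1, hx1, h1⟩ := hup k1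
    obtain ⟨x2, hx2, h2⟩ := hlo k2
    obtain ⟨x3, hx3, h3⟩ := hup k3
    obtain ⟨x4, hx4, h4⟩ := hlo k4
    refine ⟨x1 * x2 * x3 * x4, mul_mem (mul_mem (mul_mem hx1 hx2) hx3) hx4, fun m => ?_⟩
    rw [ap_mul, ap_mul, ap_mul, h1, h2, h3, h4, NatPair.ap_mul, NatPair.ap_mul, NatPair.ap_mul]
  choose lf hlf1 hlf2 using hexi
  have hinvm : ∀ A m, e (ρ (lf A)⁻¹ m) = NatPair.ap A⁻¹ (e m) := by
    intro A m
    have h1 := hlf2 A (ρ (lf A)⁻¹ m)
    rw [ap_inv] at h1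
    rw [h1, NatPair.ap_inv_ap]
  have heq : ∀ A, ∀ x ∈ L2, (∀ m, e (ρ x m) = NatPair.ap A (e m)) → lf A = x := by
    intro A x hx hxe
    have h1 := huniq ((lf A)⁻¹ * x) (mul_mem (inv_mem (hlf1 A)) hx) fun m => by
      rw [ap_mul, hinvm, hxe, NatPair.ap_inv_ap]
    exact (inv_mul_eq_one.mp h1)
  refine ⟨{ toFun := lf
            map_one' := heq 1 1 (one_mem _) fun m => by rw [ap_one, NatPair.ap_one]
            map_mul' := fun A A' => heq _ _ (mul_mem (hlf1 A) (hlf1 A')) fun m => by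
              rw [ap_mul, hlf2, hlf2, NatPair.ap_mul] }, e, hlf2, fun A m hm => hker m hm _ (hlf1 A), hsur,
    fun A => hL2 (hlf1 A), fun k => ?_⟩
  obtain ⟨b, hb, hk⟩ := R.ex k
  have h1 := heq (up k) b (subset_closure (Or.inl hb)) (hB b hb k hk)
  change lf (up k) ∈ B
  rw [h1]; exact hb

end Fd

/-- **the abstract part of THEOREM A** -/
theorem Fr.main [Finite Γ] [Finite M] (h : Fr ρ B L N X Φ) :
    ∃ (K : Type u) (_ : Field K) (_ : Finite K) (l : Matrix.SpecialLinearGroup (Fin 2) K →* Γ)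
      (e : M →+ (Fin 2 → K)) (S : Submodule (ZMod 2) M) (Y1 : Subgroup Γ), Nat.card K = Nat.card B ∧
      (∀ k : K, k + k = 0) ∧ (∀ A m, e (ρ (l A) m) = NatPair.ap A (e m)) ∧
      (∀ A m, e m = 0 → ρ (l A) m = m) ∧ S ≤ X ∧ (∀ g ∈ L, ∀ v ∈ S, ρ g v ∈ S) ∧ (∀ x, ∃ v ∈ S, e v = x) ∧
      (∀ A, l A ∈ L1 B L) ∧ (∀ k, l (up k) ∈ B) ∧ Y1 ≤ YY ρ L X ∧
      ∀ v ∈ S, (∀ r ∈ Y1, Φ r v = 0) → ∀ g ∈ L1 B L, ρ g v = v := by
  obtain ⟨Y1, n⟩ := h.exists_mn
  obtain ⟨m0, hm0⟩ := n.exists_m h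
  obtain ⟨V, iV1, iV2, iV3, q, p, Q, ps, pq⟩ := exists_qt h n hm0
  obtain ⟨K, iK, iF, iM, f, s, t, D⟩ := Q.exists_fd h
  obtain ⟨c1, c2, c3, c4⟩ := D.count h ps pq
  obtain ⟨φ, a, R, hk, hp⟩ := D.exists_root h c1 c2
  obtain ⟨g, hg, hc, hd⟩ := D.exists_opp h R hk hp
  obtain ⟨l, e, k1, k2, k3, k4, k5⟩ := D.exists_sl h pq c3 ps c4 R hg hc hd
  refine ⟨K, iK, iF, l, e, Sm h n m0, Y1, c2, D.char2 h, k1, k2, Sm_le h n, fun g hg v hv => Sm_inv h n hg hv, k3,
    k4, k5, n.le, ?_⟩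
  rintro _ ⟨u, hu, rfl⟩ h0 g hg
  exact n.ce_of h hm0 hu h0 g hg m0

end Cfsg.Agent.Omega.FOne.ThmA

end
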